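import Cfsg.Agent.H31.SL2Pair.Pair
import Cfsg.Agent.H63.PGVMain

/-!
A minimal offender generating a p-minimal group together with any conjugate outside the maximal
subgroup gives the special linear group of dimension two on its natural module.
-/

namespace Cfsg.Agent.H31.SL2Pair

open Subgroup Cfsg.Agent.H63

universe u v

variable {P : Type u} [Group P] {V : Type v} [AddCommGroup V] [DistribMulAction P V]

/-- The translate of an additive subgroup. -/
def tr (g : P) (C : AddSubgroup V) : AddSubgroup V := C.map (DistribSMul.toAddMonoidHom V g)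

theorem mem_tr {g : P} {C : AddSubgroup V} {v : V} : v ∈ tr g C ↔ g⁻¹ • v ∈ C := by
  constructor
  · rintro ⟨w, hw, rfl⟩
    simpa using hw
  · exact fun h => ⟨g⁻¹ • v, h, smul_inv_smul g v⟩

theorem tr_mul (g h : P) (C : AddSubgroup V) : tr (g * h) C = tr g (tr h C) := by
  ext v; simp only [mem_tr, mul_inv_rev, mul_smul]

theorem card_tr (g : P) (C : AddSubgroup V) : Nat.card (tr g C) = Nat.card C :=
  (Nat.card_congr
    { toFun := fun c : C => (⟨g • (c : V), mem_tr.mpr (by rw [inv_smul_smul]; exact c.2)⟩ : tr g C)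
      invFun := fun w => ⟨g⁻¹ • (w : V), mem_tr.mp w.2⟩
      left_inv := fun c => Subtype.ext (inv_smul_smul g (c : V))
      right_inv := fun w => Subtype.ext (smul_inv_smul g (w : V)) }).symm

theorem smul_mem_tr {g : P} {C : AddSubgroup V} {v : V} (hv : v ∈ C) : g • v ∈ tr g C :=
  mem_tr.mpr (by rw [inv_smul_smul]; exact hv)

/-- The action on the quotient by an invariant subgroup. -/
@[reducible] def quotSmul (Z : AddSubgroup V) (h : ∀ (g : P), ∀ v ∈ Z, g • v ∈ Z) :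
    DistribMulAction P (V ⧸ Z) where
  smul g := QuotientAddGroup.map Z Z (DistribMulAction.toAddMonoidEnd P V g) (fun v hv => h g v hv)
  one_smul x := by
    obtain ⟨v, rfl⟩ := QuotientAddGroup.mk_surjective x
    exact congrArg QuotientAddGroup.mk (one_smul P v)
  mul_smul g h x := by
    obtain ⟨v, rfl⟩ := QuotientAddGroup.mk_surjective x
    exact congrArg QuotientAddGroup.mk (mul_smul g h v)
  smul_zero g := congrArg QuotientAddGroup.mk (smul_zero g)
  smul_add g x y := by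
    obtain ⟨v, rfl⟩ := QuotientAddGroup.mk_surjective x
    obtain ⟨w, rfl⟩ := QuotientAddGroup.mk_surjective y
    exact congrArg QuotientAddGroup.mk (smul_add g v w)

/-- The intersection of a Sylow subgroup with the core of the only maximal subgroup above it is
normal. -/
theorem normal_sylow_inf_core [Finite P] {p : ℕ} [Fact p.Prime] (T : Sylow p P) (M : Subgroup P)
    (hM : IsCoatom M) (huniq : ∀ N, IsCoatom N → (T : Subgroup P) ≤ N → N = M) :
    ((T : Subgroup P) ⊓ M.normalCore).Normal := by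
  set K := M.normalCore with hK
  set R := (T : Subgroup P) ⊓ K with hR
  obtain ⟨Q, hQ⟩ := ((T.2.to_le inf_le_left : IsPGroup p R).comap_subtype (K := K)).exists_le_sylow
  have hQmap : (Q : Subgroup K).map K.subtype = R := by
    refine (Subgroup.eq_of_le_of_card_ge ?_ ?_).symm
    · intro r hr
      exact ⟨⟨r, hr.2⟩, hQ (by exact hr), rfl⟩
    · obtain ⟨T1, hT1⟩ := (Q.2.map K.subtype).exists_le_sylow
      obtain ⟨g, hg⟩ := MulAction.exists_smul_eq P T T1
      refine Nat.card_le_card_of_injective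
        (fun y => (⟨g⁻¹ * (y : P) * g, ?_⟩ : R)) fun y z hyz => Subtype.ext (by
          have := congrArg Subtype.val hyz
          simpa using this)
      have h1 : (y : P) ∈ (T1 : Subgroup P) := hT1 y.2
      rw [← hg, Sylow.coe_subgroup_smul] at h1
      obtain ⟨t, ht, hty⟩ := h1
      refine ⟨?_, ?_⟩
      · have e : g⁻¹ * (y : P) * g = t := by
          rw [← hty]
          show g⁻¹ * (g * t * g⁻¹) * g = t
          group
        rw [e]; exact ht
      · obtain ⟨k, -, hk⟩ := y.2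
        have := (Subgroup.normalCore_normal M).conj_mem (y : P) (hk ▸ k.2) g⁻¹
        simpa using this
  have hN : normalizer (R : Set P) ⊔ K = ⊤ := by
    have := Sylow.normalizer_sup_eq_top Q
    rwa [hQmap] at this
  rw [← normalizer_eq_top_iff]
  by_contra hne
  rcases eq_top_or_exists_le_coatom (normalizer (R : Set P)) with h | ⟨N, hN1, hN2⟩
  · exact hne h
  have hT : (T : Subgroup P) ≤ normalizer (R : Set P) :=
    (le_inf le_normalizer le_normalizer_of_normal).trans inf_normalizer_le_normalizer_inf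
  have := huniq N hN1 (hT.trans hN2)
  subst this
  exact hN1.1 (top_le_iff.mp (hN ▸ sup_le hN2 (Subgroup.normalCore_le N)))

theorem sl2_of_offender [Finite P] [Finite V] {p : ℕ} [Fact p.Prime] (hV : ∀ v : V, p • v = 0)
    (hfaith : ∀ g : P, (∀ v : V, g • v = v) → g = 1) (T : Sylow p P) (hTn : ¬ (T : Subgroup P).Normal)
    (M : Subgroup P) (hM : IsCoatom M) (hTM : (T : Subgroup P) ≤ M)
    (huniq : ∀ N, IsCoatom N → (T : Subgroup P) ≤ N → N = M)
    (A : Subgroup P) (hAT : A ≤ (T : Subgroup P)) (hcomm : ∀ a ∈ A, ∀ b ∈ A, a * b = b * a)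
    (hexp : ∀ a ∈ A, a ^ p = 1) (hoff : Nat.card V ≤ mS V A)
    (hstrict : ∀ A₀ ≤ A, A₀ ≠ ⊥ → A₀ ≠ A → mS V A₀ < mS V A)
    (hmov : ∃ v ∈ fixS V A, v ∈ fixS V ((T : Subgroup P) ⊓ M.normalCore) ∧ ∃ g : P, g • v ≠ v)
    (hgen : ∀ x : P, x ∉ M → A ⊔ A.map (MulAut.conj x).toMonoidHom = ⊤) :
    ∃ (F : Type) (_ : Field F) (_ : Fintype F) (e : P ≃* Matrix.SpecialLinearGroup (Fin 2) F)
      (ψ : V →+ (Fin 2 → F)), Fintype.card F = Nat.card A ∧ Function.Surjective ψ ∧
      (∀ v, ψ v = 0 ↔ ∀ g : P, g • v = v) ∧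
      (∀ (g : P) (v : V), ψ (g • v) =
        ((e g : Matrix.SpecialLinearGroup (Fin 2) F) : Matrix (Fin 2) (Fin 2) F).mulVec (ψ v)) ∧
      (∀ a ∈ A, ∀ v : V, a • v - v ∈ fixS V A) ∧
      (∀ c ∈ fixS V A, ∃ a ∈ A, ∃ v : V, ∀ g : P, g • (c - (a • v - v)) = c - (a • v - v)) ∧
      Nat.card (fixS V A) = Nat.card A * Nat.card (fixS V (⊤ : Subgroup P)) ∧
      Nat.card V = Nat.card A * Nat.card (fixS V A) ∧
      (∀ a ∈ A, ∀ v : V, v ∉ fixS V A → a • v - v ∈ fixS V (⊤ : Subgroup P) → a = 1) ∧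
      (∀ x : P, x ∉ M → ∀ v : V, v ∉ fixS V A → ∃ a ∈ A, v ∈ tr (a * x) (fixS V A)) := by
  classical
  set C := fixS V A with hC
  set Z := fixS V (⊤ : Subgroup P) with hZdef
  have hAM : A ≤ M := hAT.trans hTM
  have hmemZ : ∀ {v}, v ∈ Z ↔ ∀ g : P, g • v = v := fun {v} =>
    ⟨fun h g => h g trivial, fun h g _ => h g⟩
  have hZC : ∀ {v}, v ∈ Z → v ∈ C := fun h a _ => hmemZ.mp h a
  have hZtr : ∀ (g : P) {v}, v ∈ Z → v ∈ tr g C := fun g v h =>
    mem_tr.mpr (hZC (by rw [hmemZ.mp h]; exact h))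
  obtain ⟨x₀, hx₀⟩ : ∃ x, x ∉ M := by
    by_contra h
    exact hM.1 (eq_top_iff.mpr fun x _ => by_contra fun hx => h ⟨x, hx⟩)
  have hA : A ≠ ⊥ := by
    intro h
    have h1 := hgen x₀ hx₀
    rw [h, Subgroup.map_bot, sup_idem] at h1
    refine hx₀ ?_
    have : x₀ ∈ (⊥ : Subgroup P) := h1 ▸ mem_top _
    rw [Subgroup.mem_bot.mp this]; exact one_mem _
  -- quadratic action
  have hquad : ∀ a ∈ A, ∀ v : V, a • v - v ∈ C := by
    have hP : ∀ B ≤ A, mS V B ≤ mS V A := by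
      intro B hB
      rcases eq_or_ne B ⊥ with rfl | h0
      · refine le_trans ?_ hoff
        simp only [mS, Subgroup.card_bot, one_mul]
        exact Nat.card_le_card_of_injective _ Subtype.val_injective
      rcases eq_or_ne B A with rfl | h1
      · exact le_rfl
      exact (hstrict B hB h0 h1).le
    obtain ⟨B, hB, hB0, hBe, hq⟩ := replacement hV A hcomm hexp (fun a _ => hfaith a) hA hP
    have : B = A := by_contra fun h => (hstrict B hB hB0 h).ne hBe
    subst this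
    exact fun a ha v b hb => hq b hb a ha v
  have hfixA : ∀ a ∈ A, ∀ c ∈ C, a • c = c := fun a ha c hc => hc a ha
  -- the two spaces
  have hinf : ∀ x, x ∉ M → C ⊓ tr x C = Z := by
    intro x hx
    refine le_antisymm (fun v hv => hmemZ.mpr fun g => ?_)
      (fun v hv => AddSubgroup.mem_inf.mpr ⟨hZC hv, hZtr x hv⟩)
    have h : A ⊔ A.map (MulAut.conj x).toMonoidHom ≤ MulAction.stabilizer P v := by
      refine sup_le (fun a ha => (AddSubgroup.mem_inf.mp hv).1 a ha) ?_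
      rintro _ ⟨a, ha, rfl⟩
      show (x * a * x⁻¹) • v = v
      rw [mul_smul, mul_smul, mem_tr.mp (AddSubgroup.mem_inf.mp hv).2 a ha, smul_inv_smul]
    exact h (hgen x hx ▸ mem_top g)
  have hinv : ∀ x, x ∉ M → ∀ g : P, ∀ v ∈ C ⊔ tr x C, g • v ∈ C ⊔ tr x C := by
    intro x hx g
    have h : A ⊔ A.map (MulAut.conj x).toMonoidHom ≤ stabA P (C ⊔ tr x C) := by
      have key : ∀ H : Subgroup P, (∀ g ∈ H, ∀ v ∈ C ⊔ tr x C, g • v - v ∈ C ⊔ tr x C) →
          H ≤ stabA P (C ⊔ tr x C) := by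
        intro H hH g hg v
        have h1 : ∀ g ∈ H, ∀ v ∈ C ⊔ tr x C, g • v ∈ C ⊔ tr x C := fun g hg v hv => by
          have := add_mem (hH g hg v hv) hv
          rwa [sub_add_cancel] at this
        exact ⟨fun h => by simpa using h1 g⁻¹ (inv_mem hg) _ h, h1 g hg v⟩
      refine sup_le (key A fun a ha v _ => AddSubgroup.mem_sup_left (hquad a ha v)) (key _ ?_)
      rintro _ ⟨a, ha, rfl⟩ v _
      show (x * a * x⁻¹) • v - v ∈ _
      refine AddSubgroup.mem_sup_right (mem_tr.mpr ?_)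
      rw [smul_sub, mul_smul, mul_smul, inv_smul_smul]
      exact hquad a ha _
    exact fun v hv => ((h (hgen x hx ▸ mem_top g)) v).mpr hv
  set U := C ⊔ tr x₀ C with hUdef
  have hUtr : ∀ g : P, tr g C ≤ U := fun g v hv => by
    have := hinv x₀ hx₀ g _ (AddSubgroup.mem_sup_left (mem_tr.mp hv))
    rwa [smul_inv_smul] at this
  have hU : ∀ x, x ∉ M → U = C ⊔ tr x C := by
    intro x hx
    refine le_antisymm (sup_le le_sup_left fun v hv => ?_) (sup_le le_sup_left (hUtr x))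
    have := hinv x hx x₀ _ (AddSubgroup.mem_sup_left (mem_tr.mp hv))
    rwa [smul_inv_smul] at this
  -- singular elements
  set R := (T : Subgroup P) ⊓ M.normalCore with hR
  haveI hRn : R.Normal := normal_sylow_inf_core T M hM huniq
  have hsing : ∀ a ∈ A, ∀ v ∈ U, v ∉ C → a • v - v ∈ Z → a ∈ R := by
    intro a ha v hv hvC hva
    refine Subgroup.mem_inf.mpr ⟨hAT ha, fun y => ?_⟩
    by_cases hy : y ∈ M
    · exact mul_mem (mul_mem hy (hAM ha)) (inv_mem hy)
    have hy' : y⁻¹ ∉ M := fun h => hy (inv_inv y ▸ inv_mem h)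
    by_contra hc
    obtain ⟨c, hcC, w, hw, rfl⟩ := AddSubgroup.mem_sup.mp (hU y⁻¹ hy' ▸ hv)
    rw [smul_add, hfixA a ha c hcC, add_sub_add_left_eq_sub] at hva
    refine hvC (add_mem hcC (hZC ?_))
    have haw : a • w ∈ tr y⁻¹ C := by
      have := add_mem (hZtr y⁻¹ hva) hw
      rwa [sub_add_cancel] at this
    have h1 : y • (a • w) ∈ C := by simpa using mem_tr.mp haw
    have h2 : y • (a • w) ∈ tr (y * a * y⁻¹) C := by
      refine mem_tr.mpr ?_
      have h3 : y • w ∈ C := by simpa using mem_tr.mp hw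
      have e : (y * a * y⁻¹)⁻¹ • y • a • w = y • w := by
        simp only [mul_inv_rev, mul_smul, inv_inv, inv_smul_smul]
      rw [e]; exact h3
    have h4 : y • (a • w) ∈ Z := hinf _ hc ▸ AddSubgroup.mem_inf.mpr ⟨h1, h2⟩
    refine hmemZ.mpr fun g => ?_
    have e : a • w = y⁻¹ • (y • (a • w)) := (inv_smul_smul y _).symm
    rw [hmemZ.mp h4] at e
    have e2 : w = a⁻¹ • (y • (a • w)) := by rw [← e, inv_smul_smul]
    rw [hmemZ.mp h4] at e2
    rw [e2]; exact hmemZ.mp h4 g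
  have hxU : ∀ {x : P}, x ∉ M → ∀ {w : V}, w ∈ tr x C → w ∉ Z → w ∈ U ∧ w ∉ C := fun {x} hx {w} hw hwZ =>
    ⟨hUtr x hw, fun h => hwZ (hinf x hx ▸ AddSubgroup.mem_inf.mpr ⟨h, hw⟩)⟩
  -- the fixed space of `R`
  set F := fixS V R with hF
  have hFsmul : ∀ (g : P), ∀ v ∈ F, g • v ∈ F := by
    intro g v hv r hr
    have := hv _ (hRn.conj_mem r hr g⁻¹)
    rw [inv_inv, mul_smul, mul_smul, inv_smul_eq_iff] at this
    exact this
  obtain ⟨w₀, hw₀, hw₀F, hw₀Z⟩ : ∃ w, w ∈ tr x₀ C ∧ w ∈ F ∧ w ∉ Z := by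
    obtain ⟨v, hv, hvR, g, hg⟩ := hmov
    refine ⟨x₀ • v, smul_mem_tr hv, hFsmul x₀ v hvR, fun h => hg ?_⟩
    have e : v = x₀⁻¹ • (x₀ • v) := (inv_smul_smul x₀ v).symm
    rw [hmemZ.mp h] at e
    rw [e]; exact hmemZ.mp h g
  have hd : ∀ (w : V) (a c : P), a ∈ A → c ∈ A → (a * c) • w - w = (a • w - w) + (c • w - w) := by
    intro w a c ha hc
    have : (a * c) • w - w = a • (c • w - w) + (a • w - w) := by rw [smul_sub, mul_smul]; abel
    rw [this, hfixA a ha _ (hquad c hc w)]; abel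
  let Φ : V → (Additive A × Z →+ V) := fun w => AddMonoidHom.mk'
    (fun q => ((q.1.toMul : P) • w - w) + (q.2 : V)) fun q q' => by
      show ((q.1.toMul : P) * (q'.1.toMul : P)) • w - w + ((q.2 : V) + (q'.2 : V)) = _
      rw [hd w _ _ q.1.toMul.2 q'.1.toMul.2]; abel
  have hΦker : ∀ w ∈ U, w ∉ C → ∀ q : Additive A × Z, Φ w q = 0 → (q.1.toMul : P) ∈ A ⊓ R := by
    intro w hw hwC q hq
    refine Subgroup.mem_inf.mpr ⟨q.1.toMul.2, hsing _ q.1.toMul.2 w hw hwC ?_⟩
    rw [eq_neg_of_add_eq_zero_left hq]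
    exact neg_mem q.2.2
  have hFC : Nat.card A * Nat.card Z ≤ Nat.card ↥(A ⊓ R) * Nat.card ↥(F ⊓ C) := by
    have h1 : (Φ w₀).range ≤ F ⊓ C := by
      rintro _ ⟨q, rfl⟩
      refine AddSubgroup.mem_inf.mpr ⟨?_, add_mem (hquad _ q.1.toMul.2 _) (hZC q.2.2)⟩
      exact add_mem (sub_mem (hFsmul _ _ hw₀F) hw₀F) fun r _ => hmemZ.mp q.2.2 r
    have h2 := AddSubgroup.card_mul_index (Φ w₀).ker
    rw [AddSubgroup.index_ker, Nat.card_prod] at h2
    change _ = Nat.card A * Nat.card Z at h2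
    rw [← h2]
    refine Nat.mul_le_mul ?_ (AddSubgroup.card_le_of_le h1)
    refine Nat.card_le_card_of_injective (fun q => (⟨(q.1.1.toMul : P),
      hΦker w₀ (hxU hx₀ hw₀ hw₀Z).1 (hxU hx₀ hw₀ hw₀Z).2 q.1 q.2⟩ : ↥(A ⊓ R))) fun q q' h => ?_
    have e1 : q.1.1 = q'.1.1 := Additive.toMul.injective (Subtype.ext (congrArg Subtype.val h :))
    refine Subtype.ext (Prod.ext e1 (Subtype.ext ?_))
    have e2 : Φ w₀ q.1 = Φ w₀ q'.1 := q.2.trans q'.2.symm
    change (q.1.1.toMul : P) • w₀ - w₀ + (q.1.2 : V) = (q'.1.1.toMul : P) • w₀ - w₀ + (q'.1.2 : V) at e2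
    rwa [e1, add_right_inj] at e2
  have hR0 : A ⊓ R = ⊥ := by
    by_contra h0
    have hne : A ⊓ R ≠ A := by
      intro h
      have hAR : A ≤ R := inf_eq_left.mp h
      have h1 : A.map (MulAut.conj x₀).toMonoidHom ≤ R := by
        rintro _ ⟨a, ha, rfl⟩
        exact hRn.conj_mem a (hAR ha) x₀
      have h2 : (⊤ : Subgroup P) ≤ T := (hgen x₀ hx₀ ▸ sup_le hAR h1).trans inf_le_left
      exact hTn (top_le_iff.mp h2 ▸ inferInstance)
    have hlt := hstrict _ inf_le_left h0 hne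
    unfold mS at hlt
    have hle : C ⊔ F ≤ fixS V (A ⊓ R) :=
      sup_le (fun v hv a ha => hv a (Subgroup.mem_inf.mp ha).1) (fun v hv a ha => hv a (Subgroup.mem_inf.mp ha).2)
    have hA' := AddSubgroup.card_le_of_le hle
    have e1 := card_sup_inf_add C F
    rw [inf_comm C F] at e1
    have e2 := card_sup_inf_add (F ⊓ C) (tr x₀ (F ⊓ C))
    rw [card_tr] at e2
    have h3 : (F ⊓ C) ⊔ tr x₀ (F ⊓ C) ≤ F := sup_le inf_le_left fun v hv => by
      have := hFsmul x₀ _ (AddSubgroup.mem_inf.mp (mem_tr.mp hv)).1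
      rwa [smul_inv_smul] at this
    have h4 : (F ⊓ C) ⊓ tr x₀ (F ⊓ C) ≤ Z := fun v hv => hinf x₀ hx₀ ▸ AddSubgroup.mem_inf.mpr
      ⟨(AddSubgroup.mem_inf.mp (AddSubgroup.mem_inf.mp hv).1).2,
        mem_tr.mpr (AddSubgroup.mem_inf.mp (mem_tr.mp (AddSubgroup.mem_inf.mp hv).2)).2⟩
    have h5 := Nat.mul_le_mul (AddSubgroup.card_le_of_le h3) (AddSubgroup.card_le_of_le h4)
    rw [← e2] at h5
    set a := Nat.card A
    set r := Nat.card ↥(A ⊓ R)
    set z := Nat.card Z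
    set c := Nat.card C
    set f := Nat.card F
    set i := Nat.card ↥(F ⊓ C)
    set j := Nat.card ↥(C ⊔ F)
    have : a * c * (i * z) ≤ r * j * (i * z) := by
      calc a * c * (i * z) = (a * z) * (c * i) := by ring
        _ ≤ (r * i) * (c * i) := Nat.mul_le_mul_right _ hFC
        _ = r * c * (i * i) := by ring
        _ ≤ r * c * (f * z) := Nat.mul_le_mul_left _ h5
        _ = r * (c * f) * z := by ring
        _ = _ := by rw [e1]; ring
    have hiz : 0 < i * z := Nat.mul_pos Nat.card_pos Nat.card_pos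
    have h6 := Nat.le_of_mul_le_mul_right this hiz
    exact absurd (h6.trans (Nat.mul_le_mul_left _ hA')) hlt.not_ge
  -- the orders
  have hnosing : ∀ a ∈ A, ∀ v ∈ U, v ∉ C → a • v - v ∈ Z → a = 1 := fun a ha v hv hvC h =>
    Subgroup.mem_bot.mp (hR0 ▸ Subgroup.mem_inf.mpr ⟨ha, hsing a ha v hv hvC h⟩)
  rw [hR0, Subgroup.card_bot, one_mul] at hFC
  have e3 := card_sup_inf_add C (tr x₀ C)
  rw [card_tr, ← hUdef, hinf x₀ hx₀] at e3
  have hUV : Nat.card U ≤ Nat.card V := Nat.card_le_card_of_injective _ Subtype.val_injective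
  have hFCC : Nat.card ↥(F ⊓ C) ≤ Nat.card C := AddSubgroup.card_le_of_le inf_le_right
  have hoff' : Nat.card V ≤ Nat.card A * Nat.card C := hoff
  have hZp : 0 < Nat.card Z := Nat.card_pos
  have hCp : 0 < Nat.card C := Nat.card_pos
  have hCeq : Nat.card C = Nat.card A * Nat.card Z := by
    refine le_antisymm (Nat.le_of_mul_le_mul_right ?_ hCp) (hFC.trans hFCC)
    calc Nat.card C * Nat.card C ≤ Nat.card V * Nat.card Z := e3 ▸ Nat.mul_le_mul_right _ hUV
      _ ≤ Nat.card A * Nat.card C * Nat.card Z := Nat.mul_le_mul_right _ hoff'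
      _ = _ := by ring
  have hUtop : U = ⊤ := by
    refine AddSubgroup.eq_top_of_card_eq _ (le_antisymm hUV (hoff'.trans (le_of_eq ?_)))
    refine Nat.eq_of_mul_eq_mul_right hZp ?_
    rw [← e3, hCeq]; ring
  have hCF : C ≤ F := fun v hv => by
    have : F ⊓ C = C := AddSubgroup.eq_of_le_of_card_ge inf_le_right (hCeq ▸ hFC)
    exact (AddSubgroup.mem_inf.mp (this.symm ▸ hv : v ∈ F ⊓ C)).1
  have hRbot : R = ⊥ := by
    have : (⊤ : AddSubgroup V) ≤ F := hUtop ▸ sup_le hCF fun v hv => by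
      have := hFsmul x₀ _ (hCF (mem_tr.mp hv))
      rwa [smul_inv_smul] at this
    exact (Subgroup.eq_bot_iff_forall _).mpr fun r hr => hfaith r fun v => this (AddSubgroup.mem_top v) r hr
  have hmemU : ∀ v, v ∈ U := fun v => hUtop ▸ AddSubgroup.mem_top v
  have hsurj : ∀ x, x ∉ M → ∀ w ∈ tr x C, w ∉ Z → ∀ c ∈ C, ∃ a ∈ A, c - (a • w - w) ∈ Z := by
    intro x hx w hw hwZ c hc
    have hinj : Function.Injective (Φ w) := (injective_iff_map_eq_zero _).mpr fun q hq => by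
      have h1 : (q.1.toMul : P) = 1 :=
        Subgroup.mem_bot.mp (hR0 ▸ hΦker w (hmemU w) (hxU hx hw hwZ).2 q hq)
      have h2 : (q.2 : V) = 0 := by
        have := hq
        change (q.1.toMul : P) • w - w + (q.2 : V) = 0 at this
        rwa [h1, one_smul, sub_self, zero_add] at this
      exact Prod.ext (Additive.toMul.injective (Subtype.ext h1)) (Subtype.ext h2)
    have h1 : (Φ w).range = C := by
      refine AddSubgroup.eq_of_le_of_card_ge ?_ ?_
      · rintro _ ⟨q, rfl⟩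
        exact add_mem (hquad _ q.1.toMul.2 _) (hZC q.2.2)
      · rw [hCeq]
        refine le_of_eq ?_
        calc Nat.card A * Nat.card Z = Nat.card (Additive A × Z) := (Nat.card_prod _ _).symm
          _ = _ := Nat.card_congr (AddMonoidHom.ofInjective hinj).toEquiv
    obtain ⟨q, hq⟩ := (h1.symm ▸ hc : c ∈ (Φ w).range)
    refine ⟨q.1.toMul, q.1.toMul.2, ?_⟩
    rw [← hq]
    show (q.1.toMul : P) • w - w + (q.2 : V) - _ ∈ Z
    rw [add_sub_cancel_left]; exact q.2.2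
  -- every vector outside `C` lies in a translate
  have hcover : ∀ x, x ∉ M → ∀ v, v ∉ C → ∃ a ∈ A, v ∈ tr (a * x) C := by
    intro x hx v hv
    obtain ⟨c, hc, w, hw, rfl⟩ := AddSubgroup.mem_sup.mp (hU x hx ▸ hmemU v)
    have hwZ : w ∉ Z := fun h => hv (add_mem hc (hZC h))
    obtain ⟨a, ha, h⟩ := hsurj x hx w hw hwZ c hc
    refine ⟨a, ha, ?_⟩
    have e : c + w = a • w + (c - (a • w - w)) := by abel
    rw [e]
    exact add_mem (tr_mul a x C ▸ smul_mem_tr hw) (hZtr _ h)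
  have hax : ∀ {a x : P}, a ∈ A → x ∉ M → a * x ∉ M := fun {a x} ha hx h =>
    hx (by simpa using mul_mem (inv_mem (hAM ha)) h)
  have hCne : ∃ c ∈ C, c ∉ Z := by
    by_contra h
    push_neg at h
    have h1 := AddSubgroup.card_le_of_le (h : C ≤ Z)
    rw [hCeq] at h1
    have h2 : 1 < Nat.card A := Subgroup.one_lt_card_iff_ne_bot A |>.mpr hA
    exact absurd h1 (not_le.mpr (lt_mul_left hZp h2))
  have htrM : ∀ m ∈ M, tr m C = C := by
    intro m hm
    refine AddSubgroup.eq_of_le_of_card_ge (fun v hv => ?_) (card_tr m C).ge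
    by_contra hvC
    obtain ⟨a, ha, hva⟩ := hcover x₀ hx₀ v hvC
    have hy : m⁻¹ * (a * x₀) ∉ M := fun h => hax ha hx₀ (by simpa using mul_mem hm h)
    have h1 : m⁻¹ • v ∈ tr (m⁻¹ * (a * x₀)) C := by rw [tr_mul]; exact smul_mem_tr hva
    have h2 : m⁻¹ • v ∈ Z := hinf _ hy ▸ AddSubgroup.mem_inf.mpr ⟨mem_tr.mp hv, h1⟩
    exact hvC (hZC (hmemZ.mpr fun g => by
      have e : v = m • (m⁻¹ • v) := (smul_inv_smul m v).symm
      rw [hmemZ.mp h2] at e
      rw [e]; exact hmemZ.mp h2 g))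
  have hline : ∀ g, g ∉ M → ∀ x, x ∉ M → ∃ a ∈ A, tr g C = tr (a * x) C := by
    intro g hg x hx
    obtain ⟨c, hc, hcZ⟩ := hCne
    have hgc : g • c ∉ C := fun h => hcZ (hmemZ.mpr fun k => by
      have h1 : g • c ∈ Z := hinf g hg ▸ AddSubgroup.mem_inf.mpr ⟨h, smul_mem_tr hc⟩
      have e : c = g⁻¹ • (g • c) := (inv_smul_smul g c).symm
      rw [hmemZ.mp h1] at e
      rw [e]; exact hmemZ.mp h1 k)
    obtain ⟨a, ha, hva⟩ := hcover x hx _ hgc
    refine ⟨a, ha, ?_⟩
    have hm : g⁻¹ * (a * x) ∈ M := by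
      by_contra hm
      refine hcZ (hinf _ hm ▸ AddSubgroup.mem_inf.mpr ⟨hc, ?_⟩)
      rw [tr_mul]
      simpa using smul_mem_tr (g := g⁻¹) hva
    rw [← mul_inv_cancel_left g (a * x), tr_mul, htrM _ hm]
  -- faithful on the quotient
  have hZsmul : ∀ (g : P), ∀ v ∈ Z, g • v ∈ Z := fun g v hv => by rw [hmemZ.mp hv]; exact hv
  letI := quotSmul Z hZsmul
  have hsmk : ∀ (g : P) (v : V), g • (QuotientAddGroup.mk v : V ⧸ Z) = QuotientAddGroup.mk (g • v) :=
    fun _ _ => rfl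
  let N : Subgroup P :=
    { carrier := {g | ∀ v : V, g • v - v ∈ Z}
      one_mem' := fun v => by rw [one_smul, sub_self]; exact zero_mem _
      mul_mem' := fun {g h} hg hh v => by
        have e : (g * h) • v - v = (g • (h • v) - h • v) + (h • v - v) := by rw [mul_smul]; abel
        rw [e]; exact add_mem (hg _) (hh v)
      inv_mem' := fun {g} hg v => by
        have := neg_mem (hg (g⁻¹ • v))
        rwa [smul_inv_smul, neg_sub] at this }
  have hNn : N.Normal := ⟨fun g hg k v => by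
    have := hZsmul k _ (hg (k⁻¹ • v))
    rwa [smul_sub, smul_inv_smul, ← mul_smul, ← mul_smul] at this⟩
  have hNp : IsPGroup p N := fun g => by
    refine ⟨1, Subtype.ext (hfaith _ fun v => ?_)⟩
    have h1 : ∀ n : ℕ, ((g : P) ^ n) • v = v + n • ((g : P) • v - v) := fun n => by
      induction n with
      | zero => simp
      | succ n ih =>
        rw [pow_succ', mul_smul, ih, smul_add, hmemZ.mp (nsmul_mem (g.2 v) n), succ_nsmul]; abel
    rw [pow_one, SubgroupClass.coe_pow, h1, hV, add_zero]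
  have hNbot : N = ⊥ := by
    obtain ⟨T1, hT1⟩ := hNp.exists_le_sylow
    obtain ⟨g, hg⟩ := MulAction.exists_smul_eq P T1 T
    have hNT : N ≤ (T : Subgroup P) := fun n hn => by
      rw [← hg, Sylow.coe_subgroup_smul]
      exact ⟨g⁻¹ * n * g, hT1 (by simpa using hNn.conj_mem n hn g⁻¹), by
        show g * (g⁻¹ * n * g) * g⁻¹ = n
        group⟩
    have hNK : N ≤ M.normalCore := fun n hn k => hTM (hNT (hNn.conj_mem n hn k))
    exact le_bot_iff.mp (hRbot ▸ le_inf hNT hNK)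
  -- apply the pair theorem
  let mk := QuotientAddGroup.mk' Z
  set x := x₀
  have hx : x ∉ M := hx₀
  have hxi : x⁻¹ ∉ M := fun h => hx (inv_inv x ▸ inv_mem h)
  have hmemmk : ∀ {D : AddSubgroup V}, (∀ {v}, v ∈ Z → v ∈ D) → ∀ {v}, mk v ∈ D.map mk → v ∈ D := by
    intro D hD v ⟨d, hd, e⟩
    have h1 : -d + v ∈ Z := QuotientAddGroup.eq.mp e
    have := add_mem hd (hD h1)
    rwa [add_neg_cancel_left] at this
  obtain ⟨G, iG, iGf, e, ψ, hcard, hψ⟩ := sl2_of_pair (P := P) (M := V ⧸ Z) (ℓ := p)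
    (fun m => by
      obtain ⟨v, rfl⟩ := QuotientAddGroup.mk_surjective m
      rw [← QuotientAddGroup.mk_nsmul, hV]; rfl)
    (fun g hg => Subgroup.mem_bot.mp (hNbot ▸ (fun v => by
      have := QuotientAddGroup.eq.mp (hg (QuotientAddGroup.mk v)).symm
      rwa [← sub_eq_neg_add] at this : g ∈ N)))
    A (A.map (MulAut.conj x).toMonoidHom) (hgen x hx) (C.map mk) ((tr x C).map mk)
    (by rw [← AddSubgroup.map_sup, ← hU x hx, hUtop,
      AddSubgroup.map_top_of_surjective _ (QuotientAddGroup.mk'_surjective Z)])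
    (by
      rw [eq_bot_iff]
      rintro m hm
      obtain ⟨⟨c, hc, rfl⟩, hm2⟩ := AddSubgroup.mem_inf.mp hm
      have : c ∈ Z := hinf x hx ▸ AddSubgroup.mem_inf.mpr ⟨hc, hmemmk (hZtr x) hm2⟩
      exact AddSubgroup.mem_bot.mpr ((QuotientAddGroup.eq_zero_iff c).mpr this))
    (fun h => by
      obtain ⟨c, hc, hcZ⟩ := hCne
      have h1 : mk c ∈ C.map mk := ⟨c, hc, rfl⟩
      rw [h] at h1
      exact hcZ ((QuotientAddGroup.eq_zero_iff c).mp (AddSubgroup.mem_bot.mp h1)))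
    (fun h => by
      refine hw₀Z ((QuotientAddGroup.eq_zero_iff w₀).mp (AddSubgroup.mem_bot.mp ?_))
      exact (h ▸ ⟨w₀, hw₀, rfl⟩ : mk w₀ ∈ (⊥ : AddSubgroup (V ⧸ Z))))
    (by rintro a ha _ ⟨c, hc, rfl⟩; exact congrArg QuotientAddGroup.mk (hfixA a ha c hc))
    (by
      rintro _ ⟨a, ha, rfl⟩ _ ⟨w, hw, rfl⟩
      refine congrArg QuotientAddGroup.mk ?_
      show (x * a * x⁻¹) • w = w
      rw [mul_smul, mul_smul, hfixA a ha _ (mem_tr.mp hw), smul_inv_smul])
    (by rintro a ha _ ⟨w, -, rfl⟩; exact ⟨a • w - w, hquad a ha w, rfl⟩)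
    (by
      rintro _ ⟨a, ha, rfl⟩ _ ⟨c, -, rfl⟩
      refine ⟨(x * a * x⁻¹) • c - c, mem_tr.mpr ?_, rfl⟩
      rw [smul_sub, mul_smul, mul_smul, inv_smul_smul]
      exact hquad a ha _)
    (by
      rintro a ha ha1 _ ⟨w, hw, rfl⟩ h
      refine (QuotientAddGroup.eq_zero_iff w).mpr ?_
      by_contra hwZ
      have h1 := QuotientAddGroup.eq.mp h.symm
      rw [← sub_eq_neg_add] at h1
      exact ha1 (hnosing a ha w (hmemU w) (hxU hx hw hwZ).2 h1))
    (by
      rintro _ ⟨w, hw, rfl⟩ hw0 _ ⟨c, hc, rfl⟩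
      obtain ⟨a, ha, h⟩ := hsurj x hx w hw (fun h => hw0 ((QuotientAddGroup.eq_zero_iff w).mpr h)) c hc
      refine ⟨a, ha, ?_⟩
      show mk (a • w - w) = mk c
      refine QuotientAddGroup.eq.mpr ?_
      rwa [← sub_eq_neg_add])
    (by
      intro a ha ha1
      have hg : x⁻¹ * a * x ∉ M := by
        intro h
        refine ha1 (hnosing a ha w₀ (hmemU _) (hxU hx hw₀ hw₀Z).2 ?_)
        rw [← hinf x hx]
        refine AddSubgroup.mem_inf.mpr ⟨hquad a ha w₀, sub_mem ?_ hw₀⟩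
        have h1 := htrM _ h
        have h2 : a • w₀ ∈ tr (a * x) C := by rw [tr_mul]; exact smul_mem_tr hw₀
        rwa [show a * x = x * (x⁻¹ * a * x) by group, tr_mul, h1] at h2
      obtain ⟨b, hb, hbe⟩ := hline _ hg x⁻¹ hxi
      refine ⟨x * b * x⁻¹, ⟨b, hb, rfl⟩, ?_⟩
      rintro _ ⟨c, hc, rfl⟩
      have h1 : (x * b * x⁻¹) • c ∈ tr (a * x) C := by
        rw [show a * x = x * (x⁻¹ * a * x) by group, tr_mul, hbe, ← tr_mul,
          show x * (b * x⁻¹) = x * b * x⁻¹ by group]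
        exact smul_mem_tr hc
      rw [tr_mul] at h1
      exact ⟨mk (a⁻¹ • ((x * b * x⁻¹) • c)), ⟨_, mem_tr.mp h1, rfl⟩,
        congrArg QuotientAddGroup.mk (smul_inv_smul a _).symm⟩)
    (by
      rintro _ ⟨b, hb, rfl⟩ hb1
      have hg : x * b * x⁻¹ ∉ M := by
        intro h
        refine hb1 ?_
        show x * b * x⁻¹ = 1
        obtain ⟨c, hc, hcZ⟩ := hCne
        have hcw : x⁻¹ • c ∈ tr x⁻¹ C := smul_mem_tr hc
        have hcwZ : x⁻¹ • c ∉ Z := fun h1 => hcZ (by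
          have := hZsmul x _ h1
          rwa [smul_inv_smul] at this)
        have : b = 1 := by
          refine hnosing b hb _ (hmemU _) (hxU hxi hcw hcwZ).2 ?_
          rw [← hinf x⁻¹ hxi]
          refine AddSubgroup.mem_inf.mpr ⟨hquad b hb _, sub_mem ?_ hcw⟩
          have h2 : (x * b * x⁻¹) • c ∈ C := by
            have := smul_mem_tr (g := x * b * x⁻¹) hc
            rwa [htrM _ h] at this
          have := smul_mem_tr (g := x⁻¹) h2
          rwa [mul_smul, mul_smul, inv_smul_smul] at this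
        rw [this]; group
      obtain ⟨a, ha, hae⟩ := hline _ hg x hx
      refine ⟨a, ha, ?_⟩
      rintro _ ⟨w, hw, rfl⟩
      have h1 : a • w ∈ tr (x * b * x⁻¹) C := by rw [hae, tr_mul]; exact smul_mem_tr hw
      exact ⟨mk ((x * b * x⁻¹)⁻¹ • (a • w)), ⟨_, mem_tr.mp h1, rfl⟩,
        congrArg QuotientAddGroup.mk (smul_inv_smul (x * b * x⁻¹) (a • w))⟩)
  refine ⟨G, iG, iGf, e, ψ.toAddMonoidHom.comp mk, hcard,
    ψ.surjective.comp (QuotientAddGroup.mk'_surjective Z), fun v => ?_, fun g v => hψ g (mk v), hquad,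
    fun c hc => ?_, hCeq, le_antisymm hoff' ?_,
    fun a ha v hv h => hnosing a ha v (hmemU v) hv h, hcover⟩
  · show ψ (mk v) = 0 ↔ _
    rw [AddEquivClass.map_eq_zero_iff]
    exact (QuotientAddGroup.eq_zero_iff v).trans hmemZ
  · obtain ⟨a, ha, h⟩ := hsurj x₀ hx₀ w₀ hw₀ hw₀Z c hc
    exact ⟨a, ha, w₀, hmemZ.mp h⟩
  · refine Nat.le_of_mul_le_mul_right ?_ hZp
    calc Nat.card A * Nat.card C * Nat.card Z = Nat.card C * Nat.card C := by rw [hCeq]; ring
      _ ≤ Nat.card V * Nat.card Z := e3 ▸ Nat.mul_le_mul_right _ hUV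

end Cfsg.Agent.H31.SL2Pair
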