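import Cfsg.Agent.H31.SL2Pair.Offender
import Cfsg.Agent.H31.QuadLimit.Main
import Cfsg.Agent.FusionSys.StronglyEmbedded

/-!
A group with a strongly `p`-embedded subgroup and an offender, generated by its `p`-elements, is the
special linear group of dimension two on its natural module.
-/

set_option autoImplicit false

namespace Cfsg.Agent.H31.SL2Pair

open Subgroup Cfsg.Agent.H63

universe u v

section embedded

variable {P : Type u} [Group P] [Finite P] {p : ℕ} [Fact p.Prime]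

theorem conj_inter_mem {Y : Subgroup P} (S : Sylow p P)
    (hY : ∀ Q : Subgroup P, Q ≤ (S : Subgroup P) → Q ≠ ⊥ → normalizer (Q : Set P) ≤ Y) (hS : (S : Subgroup P) ≠ ⊥)
    {Q : Subgroup P} (hQ : IsPGroup p Q) (hne : Q ≠ ⊥) (hQY : Q ≤ Y) {g : P}
    (hQg : ∀ a ∈ Q, g⁻¹ * a * g ∈ Y) : g ∈ Y := by
  have hSY : (S : Subgroup P) ≤ Y := le_normalizer.trans (hY _ le_rfl hS)
  have key : ∀ Q : Subgroup P, IsPGroup p Q → Q ≤ Y →
      ∃ y ∈ Y, ∀ a ∈ Q, y * a * y⁻¹ ∈ (S : Subgroup P) := by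
    intro Q hQ hQY
    obtain ⟨T, hT⟩ := (hQ.of_equiv (subgroupOfEquivOfLe hQY).symm).exists_le_sylow
    obtain ⟨y, hy⟩ := MulAction.exists_smul_eq Y T (S.subtype hSY)
    refine ⟨y, y.2, fun a ha => ?_⟩
    have : y * ⟨a, hQY ha⟩ * y⁻¹ ∈ ((y • T : Sylow p Y) : Subgroup Y) := by
      rw [Sylow.coe_subgroup_smul]
      exact ⟨_, hT (show (⟨a, hQY ha⟩ : Y) ∈ Q.subgroupOf Y from ha), rfl⟩
    rw [hy] at this
    exact this
  obtain ⟨y, hy, h1⟩ := key Q hQ hQY
  set Q' := Q.map (MulAut.conj g⁻¹).toMonoidHom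
  have hQ' : Q' ≤ Y := by
    rintro _ ⟨a, ha, rfl⟩
    show g⁻¹ * a * g⁻¹⁻¹ ∈ Y
    rw [inv_inv]; exact hQg a ha
  obtain ⟨y', hy', h2⟩ := key Q' (hQ.map _) hQ'
  have := FusionSys.mem_of_conj_mem S hY (Q := Q.map (MulAut.conj y).toMonoidHom) (g := y' * g⁻¹ * y⁻¹)
    (by rintro _ ⟨a, ha, rfl⟩; exact h1 a ha)
    (fun h => hne (Subgroup.map_injective (MulAut.conj y).injective (h.trans (Subgroup.map_bot _).symm)))
    (by
      rintro _ ⟨a, ha, rfl⟩
      show y' * g⁻¹ * y⁻¹ * (y * a * y⁻¹) * (y' * g⁻¹ * y⁻¹)⁻¹ ∈ (S : Subgroup P)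
      rw [show y' * g⁻¹ * y⁻¹ * (y * a * y⁻¹) * (y' * g⁻¹ * y⁻¹)⁻¹ = y' * (g⁻¹ * a * g⁻¹⁻¹) * y'⁻¹ by group]
      exact h2 _ ⟨a, ha, rfl⟩)
  have := mul_mem (mul_mem (inv_mem hy') this) hy
  rw [show y'⁻¹ * (y' * g⁻¹ * y⁻¹) * y = g⁻¹ by group] at this
  exact inv_mem_iff.mp this

theorem le_of_meet {Y : Subgroup P} (S : Sylow p P)
    (hY : ∀ Q : Subgroup P, Q ≤ (S : Subgroup P) → Q ≠ ⊥ → normalizer (Q : Set P) ≤ Y) (hS : (S : Subgroup P) ≠ ⊥)
    {Q : Subgroup P} (hQ : IsPGroup p Q) (hne : Q ⊓ Y ≠ ⊥) : Q ≤ Y := by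
  by_contra h
  have hlt : Q ⊓ Y < Q := lt_of_le_of_ne inf_le_left fun e => h (inf_eq_left.mp e)
  obtain ⟨x, hx, hxn⟩ := SetLike.exists_of_lt (FusionSys.lt_inf_normalizer_of_lt hQ hlt)
  obtain ⟨hxQ, hxN⟩ := mem_inf.mp hx
  refine hxn (mem_inf.mpr ⟨hxQ, conj_inter_mem S hY hS (hQ.to_le inf_le_left) hne inf_le_right fun a ha => ?_⟩)
  have := (mem_normalizer_iff.mp (inv_mem hxN) a).mp ha
  rw [inv_inv] at this
  exact (mem_inf.mp this).2

end embedded

variable {P : Type u} [Group P] {V : Type v} [AddCommGroup V] [DistribMulAction P V]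

theorem fixS_subgroupOf {A L : Subgroup P} (h : A ≤ L) : fixS V (A.subgroupOf L) = fixS V A :=
  AddSubgroup.ext fun _ => ⟨fun hv a ha => hv ⟨a, h ha⟩ ha, fun hv a ha => hv (a : P) ha⟩

theorem fixS_top_subgroup (L : Subgroup P) : fixS V (⊤ : Subgroup L) = fixS V L :=
  AddSubgroup.ext fun _ => ⟨fun hv a ha => hv ⟨a, ha⟩ trivial, fun hv a _ => hv (a : P) a.2⟩

/-- The subgroup generated by `A` and a conjugate. -/
def joinConj (A : Subgroup P) (y : P) : Subgroup P := A ⊔ A.map (MulAut.conj y).toMonoidHom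

theorem fixS_joinConj (A : Subgroup P) (y : P) :
    fixS V (joinConj A y) = fixS V A ⊓ tr y (fixS V A) := by
  rw [joinConj, fixS_sup]
  congr 1
  ext v
  rw [mem_tr]
  constructor
  · intro hv a ha
    have h1 : (y * a * y⁻¹) • v = v := hv _ ⟨a, ha, rfl⟩
    rw [mul_smul, mul_smul] at h1
    exact eq_inv_smul_iff.mpr h1
  · rintro hv _ ⟨a, ha, rfl⟩
    show (y * a * y⁻¹) • v = v
    rw [mul_smul, mul_smul, hv a ha, smul_inv_smul]

variable [Finite P] [Finite V] {p : ℕ} [Fact p.Prime]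

/-- The structure forced by a minimal offender together with a conjugate. -/
theorem minimal_join (hV : ∀ v : V, p • v = 0) (hfaith : ∀ g : P, (∀ v : V, g • v = v) → g = 1)
    {Y : Subgroup P} (S : Sylow p P)
    (hY : ∀ Q : Subgroup P, Q ≤ (S : Subgroup P) → Q ≠ ⊥ → normalizer (Q : Set P) ≤ Y)
    (hS : (S : Subgroup P) ≠ ⊥) (A : Subgroup P) (hA : A ≠ ⊥) (hAY : A ≤ Y)
    (hcomm : ∀ a ∈ A, ∀ b ∈ A, a * b = b * a) (hexp : ∀ a ∈ A, a ^ p = 1)
    (hquad : ∀ a ∈ A, ∀ v : V, a • v - v ∈ fixS V A) (hoff : Nat.card V ≤ mS V A)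
    (hstrict : ∀ A₀ ≤ A, A₀ ≠ ⊥ → A₀ ≠ A → mS V A₀ < mS V A) (y : P) (hy : y ∉ Y) (hyy : y ∈ joinConj A y)
    (hmin : ∀ x ∈ joinConj A y, x ∉ Y → Nat.card (joinConj A y) ≤ Nat.card (joinConj A x)) :
    (∃ (F : Type) (_ : Field F) (_ : Fintype F) (e : joinConj A y ≃* Matrix.SpecialLinearGroup (Fin 2) F)
      (ψ : V →+ (Fin 2 → F)), Fintype.card F = Nat.card A ∧ Function.Surjective ψ ∧
      (∀ v, ψ v = 0 ↔ ∀ g ∈ joinConj A y, g • v = v) ∧
      (∀ (g : joinConj A y) (v : V), ψ ((g : P) • v) =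
        ((e g : Matrix.SpecialLinearGroup (Fin 2) F) : Matrix (Fin 2) (Fin 2) F).mulVec (ψ v))) ∧
    Nat.card (fixS V A) = Nat.card A * Nat.card ↥(fixS V A ⊓ tr y (fixS V A)) ∧
    Nat.card V = Nat.card A * Nat.card (fixS V A) ∧
    (∀ a ∈ A, ∀ v : V, v ∉ fixS V A → a • v - v ∈ fixS V A ⊓ tr y (fixS V A) → a = 1) ∧
    (∀ v : V, v ∉ fixS V A → ∃ a ∈ A, v ∈ tr (a * y) (fixS V A)) := by
  classical
  set L := joinConj A y with hL
  have hAL : A ≤ L := le_sup_left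
  have hAp : IsPGroup p A := fun a => ⟨1, Subtype.ext (by
    rw [pow_one, SubgroupClass.coe_pow]; exact hexp a a.2)⟩
  have hnotY : ¬ L ≤ Y := fun h => hy (h hyy)
  have hyL : ∀ x ∈ L, x ∉ Y → joinConj A x = L := fun x hx hxY => by
    refine Subgroup.eq_of_le_of_card_ge (sup_le hAL ?_) (hmin x hx hxY)
    rintro _ ⟨a, ha, rfl⟩
    exact mul_mem (mul_mem hx (hAL ha)) (inv_mem hx)
  obtain ⟨T, hT⟩ := (hAp.of_equiv (subgroupOfEquivOfLe hAL).symm).exists_le_sylow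
  have hTP : IsPGroup p ((T : Subgroup L).map L.subtype) := T.2.map _
  have hAT' : A ≤ (T : Subgroup L).map L.subtype := fun a ha =>
    ⟨⟨a, hAL ha⟩, hT (show (⟨a, hAL ha⟩ : L) ∈ A.subgroupOf L from ha), rfl⟩
  have hTY : (T : Subgroup L).map L.subtype ≤ Y :=
    le_of_meet S hY hS hTP fun h => hA (le_bot_iff.mp (h ▸ le_inf hAT' hAY))
  set M := Y.subgroupOf L
  have htop : ∀ N : Subgroup L, A.subgroupOf L ≤ N → ∀ x ∈ N, x ∉ M → N = ⊤ := by
    intro N hAN x hxN hxM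
    refine eq_top_iff.mpr fun z _ => ?_
    have h1 : joinConj A x ≤ N.map L.subtype := by
      refine sup_le (fun a ha => ⟨⟨a, hAL ha⟩, hAN ha, rfl⟩) ?_
      rintro _ ⟨a, ha, rfl⟩
      exact ⟨x * ⟨a, hAL ha⟩ * x⁻¹, mul_mem (mul_mem hxN (hAN ha)) (inv_mem hxN), rfl⟩
    rw [hyL x x.2 hxM] at h1
    obtain ⟨w, hw, e⟩ := h1 z.2
    rwa [← Subtype.ext e]
  have hM : IsCoatom M := ⟨fun h => hnotY (Subgroup.subgroupOf_eq_top.mp h), fun N hN => by
    obtain ⟨x, hxN, hxM⟩ := SetLike.exists_of_lt hN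
    exact htop N (le_trans (fun a ha => hAY ha) hN.le) x hxN hxM⟩
  have hTM : (T : Subgroup L) ≤ M := fun t ht => hTY ⟨t, ht, rfl⟩
  have huniq : ∀ N, IsCoatom N → (T : Subgroup L) ≤ N → N = M := by
    intro N hN hTN
    by_contra hne
    have hle : ¬ N ≤ M := fun h => by
      rcases h.lt_or_eq with h1 | h1
      · exact hM.1 (hN.2 _ h1)
      · exact hne h1
    obtain ⟨x, hxN, hxM⟩ := SetLike.not_le_iff_exists.mp hle
    exact hN.1 (htop N (hT.trans hTN) x hxN hxM)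
  have hRbot : ∀ R : Subgroup L, R.Normal → IsPGroup p R → R ≤ M → R = ⊥ := by
    intro R hR hRp hRM
    by_contra hne
    refine hnotY fun x hx => conj_inter_mem S hY hS (hRp.map L.subtype)
      (fun h => hne ((Subgroup.map_eq_bot_iff_of_injective _ L.subtype_injective).mp h))
      (by rintro _ ⟨r, hr, rfl⟩; exact hRM hr) fun a ha => ?_
    obtain ⟨r, hr, rfl⟩ := ha
    have := hRM (hR.conj_mem r hr (⟨x, hx⟩ : L)⁻¹)
    rw [inv_inv] at this
    exact this
  have hTn : ¬ (T : Subgroup L).Normal := fun h => by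
    have := hRbot _ h T.2 hTM
    refine hA (le_bot_iff.mp ?_)
    rw [this, Subgroup.map_bot] at hAT'
    exact hAT'
  set C := fixS V A with hC
  have hmS : ∀ B : Subgroup L, mS V B = mS V (B.map L.subtype) := fun B => by
    unfold mS
    rw [Subgroup.card_map_of_injective L.subtype_injective]
    refine congrArg (Nat.card B * ·) (congrArg (fun D : AddSubgroup V => Nat.card D) ?_)
    exact AddSubgroup.ext fun v => ⟨fun hv => by rintro _ ⟨g, hg, rfl⟩; exact hv g hg,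
      fun hv g hg => hv _ ⟨g, hg, rfl⟩⟩
  have hmapA : (A.subgroupOf L).map L.subtype = A := by
    rw [Subgroup.subgroupOf_map_subtype, inf_eq_left.mpr hAL]
  have hmov : ∃ v ∈ fixS V (A.subgroupOf L), v ∈ fixS V ((T : Subgroup L) ⊓ M.normalCore) ∧
      ∃ g : L, g • v ≠ v := by
    rw [hRbot _ (normal_sylow_inf_core T M hM huniq) (T.2.to_le inf_le_left) (inf_le_left.trans hTM)]
    by_contra hne
    push_neg at hne
    have h0 : ∀ c ∈ C, ∀ g ∈ L, g • c = c := fun c hc g hg => hne c (by rw [fixS_subgroupOf hAL]; exact hc)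
      (fun r hr => by rw [Subgroup.mem_bot.mp hr, one_smul]) ⟨g, hg⟩
    have hAN : A ≤ QuadLimit.NC P C := fun a ha => ⟨fun c hc => hc a ha, fun v => hquad a ha v⟩
    have hLN : L ≤ QuadLimit.NC P C := by
      refine sup_le hAN ?_
      rintro _ ⟨a, ha, rfl⟩
      refine ⟨fun c hc => h0 c hc _ (mem_sup_right ⟨a, ha, rfl⟩), fun v => ?_⟩
      show (y * a * y⁻¹) • v - v ∈ C
      have e : (y * a * y⁻¹) • v - v = y • (a • (y⁻¹ • v) - y⁻¹ • v) := by
        rw [smul_sub, mul_smul, mul_smul, smul_inv_smul]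
      rw [e, h0 _ (hquad a ha _) y hyy]
      exact hquad a ha _
    have hLp : IsPGroup p L := fun g => by
      refine ⟨1, Subtype.ext (hfaith _ fun v => ?_)⟩
      have hg := hLN g.2
      have h1 : ∀ n : ℕ, ((g : P) ^ n) • v = v + n • ((g : P) • v - v) := fun n => by
        induction n with
        | zero => simp
        | succ n ih =>
          rw [pow_succ', mul_smul, ih, smul_add, hg.1 _ (nsmul_mem (hg.2 v) n), succ_nsmul]; abel
      rw [pow_one, SubgroupClass.coe_pow, h1, hV, add_zero]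
    exact hnotY (le_of_meet S hY hS hLp fun h => hA (le_bot_iff.mp (h ▸ le_inf hAL hAY)))
  obtain ⟨F, iF, iFt, e, ψ, hcard, hψs, hψ0, hψe, -, -, hCZ, hVC, hnos, hcov⟩ :=
    sl2_of_offender (P := L) hV (fun g hg => Subtype.ext (hfaith g hg)) T hTn M hM hTM huniq
      (A.subgroupOf L) hT (fun a ha b hb => Subtype.ext (hcomm _ ha _ hb))
      (fun a ha => Subtype.ext (by rw [SubgroupClass.coe_pow]; exact hexp _ ha))
      (by rw [hmS, hmapA]; exact hoff)
      (fun A₀ h0 h1 h2 => by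
        rw [hmS, hmS, hmapA]
        refine hstrict _ ?_ ?_ ?_
        · rw [← hmapA]; exact Subgroup.map_mono h0
        · rwa [ne_eq, Subgroup.map_eq_bot_iff_of_injective _ L.subtype_injective]
        · rw [← hmapA]; exact fun h => h2 (Subgroup.map_injective L.subtype_injective h))
      hmov
      (fun x hx => by
        apply Subgroup.map_injective L.subtype_injective
        rw [Subgroup.map_sup, hmapA, Subgroup.map_map, ← MonoidHom.range_eq_map, Subgroup.range_subtype]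
        refine Eq.trans (congrArg (A ⊔ ·) ?_) (hyL x x.2 hx)
        conv_rhs => rw [← hmapA]
        rw [Subgroup.map_map]
        rfl)
  have hcardA : Nat.card (A.subgroupOf L) = Nat.card A := Nat.card_congr (subgroupOfEquivOfLe hAL).toEquiv
  rw [fixS_subgroupOf hAL, fixS_top_subgroup] at hCZ hnos
  rw [fixS_subgroupOf hAL, hcardA] at hVC
  rw [hcardA, hL, fixS_joinConj] at hCZ
  rw [hcardA] at hcard
  refine ⟨⟨F, iF, iFt, e, ψ, hcard, hψs, fun v => (hψ0 v).trans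
    ⟨fun h g hg => h ⟨g, hg⟩, fun h g => h g g.2⟩, hψe⟩, hCZ, hVC, fun a ha v hv h => ?_, fun v hv => ?_⟩
  · rw [← fixS_joinConj] at h
    exact congrArg Subtype.val (hnos ⟨a, hAL ha⟩ ha v hv h)
  · obtain ⟨a, ha, hva⟩ := hcov ⟨y, hyy⟩ hy v (by rwa [fixS_subgroupOf hAL])
    rw [fixS_subgroupOf hAL] at hva
    refine ⟨a, ha, mem_tr.mpr ?_⟩
    have h1 := mem_tr.mp hva
    exact h1

theorem not_joinConj_le {Y : Subgroup P} (S : Sylow p P)
    (hY : ∀ Q : Subgroup P, Q ≤ (S : Subgroup P) → Q ≠ ⊥ → normalizer (Q : Set P) ≤ Y)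
    (hS : (S : Subgroup P) ≠ ⊥) {A : Subgroup P} (hA : A ≠ ⊥) (hAp : IsPGroup p A) (hAY : A ≤ Y) {y : P}
    (hy : y ∉ Y) : ¬ joinConj A y ≤ Y := fun h =>
  hy (conj_inter_mem S hY hS (hAp.map (MulAut.conj y).toMonoidHom)
    (fun e => hA (Subgroup.map_injective (MulAut.conj y).injective (e.trans (Subgroup.map_bot _).symm)))
    (le_sup_right.trans h) fun a ha => by
      obtain ⟨b, hb, rfl⟩ := ha
      show y⁻¹ * (y * b * y⁻¹) * y ∈ Y
      rw [show y⁻¹ * (y * b * y⁻¹) * y = b by group]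
      exact hAY hb)

omit [Finite V] in
theorem joinConj_le {A : Subgroup P} {x z : P} (hx : x ∈ joinConj A z) : joinConj A x ≤ joinConj A z := by
  refine sup_le le_sup_left ?_
  rintro _ ⟨a, ha, rfl⟩
  exact mul_mem (mul_mem hx (mem_sup_left ha)) (inv_mem hx)

omit [Finite V] in
theorem exists_minimal_mem {Y A : Subgroup P} (hnot : ∀ z, z ∉ Y → ¬ joinConj A z ≤ Y) {y : P} (hy : y ∉ Y) :
    ∃ x, x ∉ Y ∧ x ∈ joinConj A x ∧ joinConj A x ≤ joinConj A y ∧
      ∀ z ∈ joinConj A x, z ∉ Y → Nat.card (joinConj A x) ≤ Nat.card (joinConj A z) := by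
  classical
  have : Fintype P := Fintype.ofFinite P
  obtain ⟨z₀, hz₀, hz₀Y⟩ := SetLike.not_le_iff_exists.mp (hnot y hy)
  obtain ⟨y', hy', hmin⟩ := Finset.exists_min_image
    (Finset.univ.filter fun x : P => x ∈ joinConj A y ∧ x ∉ Y) (fun x => Nat.card (joinConj A x))
    ⟨z₀, by simp [hz₀, hz₀Y]⟩
  simp only [Finset.mem_filter, Finset.mem_univ, true_and] at hy' hmin
  obtain ⟨x, hx, hxY⟩ := SetLike.not_le_iff_exists.mp (hnot y' hy'.2)
  have hxy : x ∈ joinConj A y := joinConj_le hy'.1 hx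
  have e : joinConj A x = joinConj A y' :=
    Subgroup.eq_of_le_of_card_ge (joinConj_le hx) (hmin x ⟨hxy, hxY⟩)
  exact ⟨x, hxY, e ▸ hx, joinConj_le hxy, fun z hz hzY => e ▸ hmin z ⟨joinConj_le hxy hz, hzY⟩⟩

/-- A group generated by its `p`-elements with a strongly `p`-embedded subgroup and an offender. -/
theorem sl2_of_embedded (hV : ∀ v : V, p • v = 0) (hfaith : ∀ g : P, (∀ v : V, g • v = v) → g = 1)
    {Y₀ : Subgroup P} (hY₀ : Cfsg.IsStronglyPEmbedded p Y₀)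
    (hgen : Subgroup.closure {x : P | ∃ k : ℕ, orderOf x = p ^ k} = ⊤)
    (hoff : ∃ A : Subgroup P, A ≠ ⊥ ∧ (∀ a ∈ A, ∀ b ∈ A, a * b = b * a) ∧ (∀ a ∈ A, a ^ p = 1) ∧
      Nat.card V ≤ mS V A) :
    ∃ (F : Type) (_ : Field F) (_ : Fintype F) (e : P ≃* Matrix.SpecialLinearGroup (Fin 2) F)
      (ψ : V →+ (Fin 2 → F)), Function.Surjective ψ ∧
      (∀ v, ψ v = 0 ↔ ∀ g : P, g • v = v) ∧
      (∀ (g : P) (v : V), ψ (g • v) =
        ((e g : Matrix.SpecialLinearGroup (Fin 2) F) : Matrix (Fin 2) (Fin 2) F).mulVec (ψ v)) := by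
  classical
  have : Fintype P := Fintype.ofFinite P
  obtain ⟨A₀, hA₀⟩ := hoff
  obtain ⟨A, hA, hmin⟩ := Finset.exists_min_image
    (Finset.univ.filter fun A : Subgroup P => A ≠ ⊥ ∧ (∀ a ∈ A, ∀ b ∈ A, a * b = b * a) ∧
      (∀ a ∈ A, a ^ p = 1) ∧ Nat.card V ≤ mS V A) (fun A => Nat.card A)
    ⟨A₀, Finset.mem_filter.mpr ⟨Finset.mem_univ _, hA₀⟩⟩
  obtain ⟨-, hA1, hcomm, hexp, hAoff⟩ := Finset.mem_filter.mp hA
  have hstrict : ∀ B ≤ A, B ≠ ⊥ → B ≠ A → mS V B < mS V A := fun B hB h0 h1 =>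
    lt_of_not_ge fun h => h1 (Subgroup.eq_of_le_of_card_ge hB (hmin B (Finset.mem_filter.mpr
      ⟨Finset.mem_univ _, h0, fun a ha b hb => hcomm a (hB ha) b (hB hb), fun a ha => hexp a (hB ha),
        hAoff.trans h⟩)))
  have hquad : ∀ a ∈ A, ∀ v : V, a • v - v ∈ fixS V A := by
    obtain ⟨B, hB, hB0, hBe, hq⟩ := replacement hV A hcomm hexp (fun a _ => hfaith a) hA1 (fun B hB => by
      rcases eq_or_ne B ⊥ with rfl | h0
      · refine le_trans ?_ hAoff
        simp only [mS, Subgroup.card_bot, one_mul]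
        exact Nat.card_le_card_of_injective _ Subtype.val_injective
      rcases eq_or_ne B A with rfl | h1
      · exact le_rfl
      exact (hstrict B hB h0 h1).le)
    have : B = A := by_contra fun h => (hstrict B hB hB0 h).ne hBe
    subst this
    exact fun a ha v b hb => hq b hb a ha v
  set C := fixS V A with hC
  have hAp : IsPGroup p A := fun a => ⟨1, Subtype.ext (by
    rw [pow_one, SubgroupClass.coe_pow]; exact hexp a a.2)⟩
  obtain ⟨S, hAS⟩ := hAp.exists_le_sylow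
  obtain ⟨Y, hYtop, hS, hY⟩ := FusionSys.exists_stronglyEmbedded_over hY₀ S
  have hSY : (S : Subgroup P) ≤ Y := le_normalizer.trans (hY _ le_rfl hS)
  have hAY : A ≤ Y := hAS.trans hSY
  have hnot : ∀ z, z ∉ Y → ¬ joinConj A z ≤ Y := fun z hz => not_joinConj_le S hY hS hA1 hAp hAY hz
  have hone := fun (x : P) (hxY : x ∉ Y) (hxx : x ∈ joinConj A x)
      (hxm : ∀ z ∈ joinConj A x, z ∉ Y → Nat.card (joinConj A x) ≤ Nat.card (joinConj A z)) =>
    minimal_join hV hfaith S hY hS A hA1 hAY hcomm hexp hquad hAoff hstrict x hxY hxx hxm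
  -- every pair
  have hpair : ∀ y, y ∉ Y → ∀ a ∈ A, ∀ v : V, v ∉ C → a • v - v ∈ tr y C → a = 1 := by
    intro y hy a ha v hv hva
    obtain ⟨x, hxY, hxx, hxy, hxm⟩ := exists_minimal_mem hnot hy
    obtain ⟨-, hCZ, hVC, hnos, -⟩ := hone x hxY hxx hxm
    have hle : C ⊓ tr y C ≤ C ⊓ tr x C := by
      rw [← fixS_joinConj, ← fixS_joinConj]
      exact fun w hw g hg => hw g (hxy hg)
    exact hnos a ha v hv (hle (AddSubgroup.mem_inf.mpr ⟨hquad a ha v, hva⟩))
  -- one minimal pair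
  obtain ⟨y₁, hy₁⟩ : ∃ y, y ∉ Y := by
    by_contra h
    exact hYtop (eq_top_iff.mpr fun x _ => by_contra fun hx => h ⟨x, hx⟩)
  obtain ⟨y, hy, hyy, -, hym⟩ := exists_minimal_mem hnot hy₁
  obtain ⟨⟨F, iF, iFt, e, ψ, -, hψs, hψ0, hψe⟩, -, hVC, -, hcov⟩ := hone y hy hyy hym
  have hay : ∀ {a}, a ∈ A → a * y ∉ Y := fun {a} ha h =>
    hy (by simpa using mul_mem (inv_mem (hAY ha)) h)
  obtain ⟨v₀, hv₀⟩ : ∃ v, v ∉ C := by
    by_contra h
    push_neg at h
    exact hA1 ((Subgroup.eq_bot_iff_forall _).mpr fun a ha => hfaith a fun v => h v a ha)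
  obtain ⟨a₀, ha₀, ha₀1⟩ := A.bot_or_exists_ne_one.resolve_left hA1
  -- the conjugates of `Y`
  have hlines : ∀ h, h ∉ Y → ∃ a ∈ A, h⁻¹ * (a * y) ∈ Y := by
    intro h hh
    by_contra hne
    push_neg at hne
    set w := h • (a₀ • v₀ - v₀)
    have hwC : w ∈ C ∨ ∃ a ∈ A, w ∈ tr (a * y) C := by
      by_cases hw : w ∈ C
      · exact Or.inl hw
      · exact Or.inr (hcov w hw)
    refine ha₀1 ?_
    rcases hwC with hw | ⟨a, ha, hw⟩
    · exact hpair h⁻¹ (fun e => hh (inv_inv h ▸ inv_mem e)) a₀ ha₀ v₀ hv₀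
        (mem_tr.mpr (by rw [inv_inv]; exact hw))
    · refine hpair (h⁻¹ * (a * y)) (hne a ha) a₀ ha₀ v₀ hv₀ ?_
      rw [tr_mul, mem_tr, inv_inv]
      exact hw
  -- `A` is the Sylow subgroup
  have hSA : (S : Subgroup P) ≤ A := by
    intro b hb
    by_cases hby : b * y ∈ Y
    · exact absurd (by simpa using mul_mem (inv_mem (hSY hb)) hby) hy
    obtain ⟨a, ha, h⟩ := hlines _ hby
    set k := b⁻¹ * a
    have hk : k ∈ (S : Subgroup P) := mul_mem (inv_mem hb) (hAS ha)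
    by_cases hk1 : k = 1
    · rwa [← inv_mul_eq_one.mp hk1] at ha
    refine absurd (conj_inter_mem S hY hS (S.2.to_le ((zpowers_le).mpr hk)) ?_
      ((zpowers_le).mpr (hSY hk)) fun x hx => ?_) hy
    · rwa [ne_eq, zpowers_eq_bot]
    · obtain ⟨n, rfl⟩ := hx
      have e : (b * y)⁻¹ * (a * y) = y⁻¹ * k * y := by simp only [k]; group
      rw [e] at h
      have e2 : y⁻¹ * k ^ n * y = (y⁻¹ * k * y) ^ n := by
        have := conj_zpow (a := y⁻¹) (b := k) (i := n)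
        rw [inv_inv] at this
        exact this.symm
      show y⁻¹ * k ^ n * y ∈ Y
      rw [e2]; exact zpow_mem h n
  -- `A` is normal in `Y`
  have hin : ∀ h ∈ Y, ∀ a ∈ A, ∀ v : V, h • (a • v - v) ∈ C := by
    intro h hh a ha v
    by_contra hw
    obtain ⟨c, hc, hwc⟩ := hcov _ hw
    by_cases hvC : v ∈ C
    · rw [hvC a ha, sub_self, smul_zero] at hw
      exact hw (zero_mem _)
    have hg : h⁻¹ * (c * y) ∉ Y := fun e => hay hc (by simpa using mul_mem hh e)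
    have := hpair _ hg a ha v hvC (by rw [tr_mul, mem_tr, inv_inv]; exact hwc)
    rw [this, one_smul, sub_self, smul_zero] at hw
    exact hw (zero_mem _)
  have hAnorm : ∀ h ∈ Y, ∀ a ∈ A, h * a * h⁻¹ ∈ A := by
    intro h hh a ha
    set b := h * a * h⁻¹
    have hbv : ∀ v : V, b • v - v = h • (a • (h⁻¹ • v) - h⁻¹ • v) := fun v => by
      rw [smul_sub, smul_inv_smul]
      simp only [b, mul_smul]
    have hbc : ∀ a' ∈ A, b * a' = a' * b := by
      intro a' ha'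
      refine (inv_mul_eq_one.mp (hfaith ((a' * b)⁻¹ * (b * a')) fun v => ?_)).symm
      have h1 : a' • (b • v) = a' • v + (b • v - v) := by
        conv_lhs => rw [show b • v = v + (b • v - v) by abel, smul_add,
          (hbv v ▸ hin h hh a ha _ : b • v - v ∈ C) a' ha']
      have h2 : b • (a' • v - v) = a' • v - v := by
        have h3 := hin h⁻¹ (inv_mem hh) a' ha' v a ha
        show (h * a * h⁻¹) • (a' • v - v) = _
        rw [mul_smul, mul_smul, h3, smul_inv_smul]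
      have h4 : b • (a' • v) = a' • (b • v) := by
        rw [h1]
        rw [smul_sub, sub_eq_iff_eq_add] at h2
        rw [h2]; abel
      rw [mul_smul (a' * b)⁻¹ (b * a') v, mul_smul b a' v, h4, ← mul_smul a' b v, inv_smul_smul]
    have hbp : IsPGroup p (zpowers b) := by
      refine (IsPGroup.iff_card (p := p)).mpr ⟨?_, ?_⟩
      · exact if b = 1 then 0 else 1
      · rw [Nat.card_zpowers]
        by_cases h1 : b = 1
        · simp [h1]
        rw [if_neg h1, pow_one]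
        refine orderOf_eq_prime ?_ h1
        show (h * a * h⁻¹) ^ p = 1
        rw [conj_pow, hexp a ha, mul_one, mul_inv_cancel]
    have hp' : IsPGroup p ↥(zpowers b ⊔ (S : Subgroup P)) := hbp.to_sup_of_normal_right' S.2 (by
      refine zpowers_le.mpr (mem_normalizer_iff.mpr fun z => ?_)
      have hz : ∀ z ∈ (S : Subgroup P), b * z * b⁻¹ = z := fun z hz => by
        rw [hbc z (hSA hz), mul_inv_cancel_right]
      constructor
      · intro hz'; rw [hz z hz']; exact hz'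
      · intro hz'
        have e : b * (b * z * b⁻¹) * b⁻¹ = b * z * b⁻¹ := hz _ hz'
        have : b * z * b⁻¹ = z := mul_left_cancel (mul_right_cancel e)
        rwa [this] at hz')
    exact hSA ((S.3 hp' le_sup_right) ▸ mem_sup_left (mem_zpowers b))
  -- all elements of `p`-power order
  have htop : joinConj A y = ⊤ := by
    rw [eq_top_iff, ← hgen, Subgroup.closure_le]
    rintro x ⟨k, hk⟩
    have hxp : IsPGroup p (zpowers x) := IsPGroup.iff_card.mpr ⟨k, by rw [Nat.card_zpowers, hk]⟩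
    obtain ⟨T, hT⟩ := hxp.exists_le_sylow
    obtain ⟨h, hh⟩ := MulAction.exists_smul_eq P S T
    have hx := hT (mem_zpowers x)
    rw [← hh, Sylow.coe_subgroup_smul] at hx
    obtain ⟨a, ha, rfl⟩ := hx
    have ha := hSA ha
    show h * a * h⁻¹ ∈ joinConj A y
    by_cases hhY : h ∈ Y
    · exact mem_sup_left (hAnorm h hhY a ha)
    obtain ⟨c, hc, hm⟩ := hlines h hhY
    have e1 : h * a * h⁻¹ = (c * y) * ((h⁻¹ * (c * y))⁻¹ * a * (h⁻¹ * (c * y))) * (c * y)⁻¹ := by group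
    rw [e1]
    refine mul_mem (mul_mem (mul_mem (mem_sup_left hc) hyy) (mem_sup_left ?_))
      (inv_mem (mul_mem (mem_sup_left hc) hyy))
    have := hAnorm _ (inv_mem hm) a ha
    rwa [inv_inv] at this
  refine ⟨F, iF, iFt, (Subgroup.topEquiv.symm.trans (MulEquiv.subgroupCongr htop.symm)).trans e, ψ, hψs,
    fun v => (hψ0 v).trans ⟨fun h g => h g (htop ▸ mem_top g), fun h g _ => h g⟩, fun g v =>
    hψe ⟨g, htop ▸ mem_top g⟩ v⟩

end Cfsg.Agent.H31.SL2Pair
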