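import Cfsg.Agent.H31.SL2Pair.SpreadField
import Cfsg.Agent.Linear.Generation

/-!
Two groups acting quadratically with complementary fixed spaces, each transitive on the opposite
space and exchanging the translates of these spaces, generate the special linear group of dimension
two over a field acting on its natural module.
-/

namespace Cfsg.Agent.H31.SL2Pair

open Subgroup

noncomputable section

universe u v

variable {P : Type u} [Group P] {M : Type v} [AddCommGroup M] [DistribMulAction P M]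

/-- `w ↦ a • w - w` from `C'` to `C`. -/
def dmap (C C' : AddSubgroup M) (a : P) (h : ∀ w ∈ C', a • w - w ∈ C) : C' →+ C :=
  AddMonoidHom.mk' (fun w => (⟨a • (w : M) - (w : M), h (w : M) w.2⟩ : C)) fun w x =>
    Subtype.ext (by simp [smul_add]; abel)

theorem dmap_apply (C C' : AddSubgroup M) (a : P) (h : ∀ w ∈ C', a • w - w ∈ C) (w : C') :
    (dmap C C' a h w : M) = a • (w : M) - w := rfl

theorem eq_of_compl {C C' : AddSubgroup M} (hinf : C ⊓ C' = ⊥) {z z' w w' : M} (hz : z ∈ C) (hz' : z' ∈ C)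
    (hw : w ∈ C') (hw' : w' ∈ C') (h : z + w = z' + w') : z = z' ∧ w = w' := by
  have e : z - z' = w' - w := by
    rw [sub_eq_sub_iff_add_eq_add, h, add_comm]
  have h1 : z - z' ∈ C ⊓ C' := AddSubgroup.mem_inf.mpr ⟨sub_mem hz hz', e ▸ sub_mem hw' hw⟩
  rw [hinf, AddSubgroup.mem_bot, sub_eq_zero] at h1
  exact ⟨h1, by rwa [h1, add_right_inj] at h⟩

theorem sl2_of_pair {ℓ : ℕ} [Fact ℓ.Prime] [Finite P] [Finite M] (hM : ∀ m : M, ℓ • m = 0)
    (hfaith : ∀ g : P, (∀ m : M, g • m = m) → g = 1) (A B : Subgroup P) (hgen : A ⊔ B = ⊤)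
    (C C' : AddSubgroup M) (hsup : C ⊔ C' = ⊤) (hinf : C ⊓ C' = ⊥) (hC : C ≠ ⊥) (hC' : C' ≠ ⊥)
    (hAfix : ∀ a ∈ A, ∀ z ∈ C, a • z = z) (hBfix : ∀ b ∈ B, ∀ w ∈ C', b • w = w)
    (hAmov : ∀ a ∈ A, ∀ w ∈ C', a • w - w ∈ C) (hBmov : ∀ b ∈ B, ∀ z ∈ C, b • z - z ∈ C')
    (hAinj : ∀ a ∈ A, a ≠ 1 → ∀ w ∈ C', a • w = w → w = 0)
    (hAtr : ∀ w ∈ C', w ≠ 0 → ∀ z ∈ C, ∃ a ∈ A, a • w - w = z)
    (hAB : ∀ a ∈ A, a ≠ 1 → ∃ b ∈ B, ∀ z ∈ C, ∃ w ∈ C', b • z = a • w)
    (hBA : ∀ b ∈ B, b ≠ 1 → ∃ a ∈ A, ∀ w ∈ C', ∃ z ∈ C, b • z = a • w) :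
    ∃ (F : Type) (_ : Field F) (_ : Fintype F) (e : P ≃* Matrix.SpecialLinearGroup (Fin 2) F)
      (ψ : M ≃+ (Fin 2 → F)), Fintype.card F = Nat.card A ∧
      ∀ (g : P) (m : M), ψ (g • m) =
        ((e g : Matrix.SpecialLinearGroup (Fin 2) F) : Matrix (Fin 2) (Fin 2) F).mulVec (ψ m) := by
  classical
  let X : A → (C' →+ C) := fun a => dmap C C' a (hAmov a a.2)
  let Y : B → (C →+ C') := fun b => dmap C' C b (hBmov b b.2)
  have hX : ∀ (a : A) (w : C'), (a : P) • (w : M) = (X a w : M) + w := fun a w => by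
    rw [dmap_apply]; exact (sub_add_cancel _ _).symm
  have hY : ∀ (b : B) (z : C), (b : P) • (z : M) = z + (Y b z : M) := fun b z => by
    rw [dmap_apply]; exact (add_sub_cancel _ _).symm
  have hgraph : ∀ (a : A) (b : B) (w : C') (z : C), (b : P) • (z : M) = (a : P) • (w : M) →
      X a w = z ∧ Y b z = w := by
    intro a b w z h
    rw [hX, hY] at h
    obtain ⟨h1, h2⟩ := eq_of_compl hinf z.2 (X a w).2 (Y b z).2 w.2 h
    exact ⟨Subtype.ext h1.symm, Subtype.ext h2⟩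
  have hXY : ∀ a : A, (a : P) ≠ 1 → ∃ b : B, ∀ z, X a (Y b z) = z := by
    intro a ha
    obtain ⟨b, hb, h⟩ := hAB a a.2 ha
    refine ⟨⟨b, hb⟩, fun z => ?_⟩
    obtain ⟨w, hw, e⟩ := h z z.2
    obtain ⟨h1, h2⟩ := hgraph a ⟨b, hb⟩ ⟨w, hw⟩ z e
    rw [h2, h1]
  have hYX : ∀ b : B, (b : P) ≠ 1 → ∃ a : A, ∀ w, Y b (X a w) = w := by
    intro b hb
    obtain ⟨a, ha, h⟩ := hBA b b.2 hb
    refine ⟨⟨a, ha⟩, fun w => ?_⟩
    obtain ⟨z, hz, e⟩ := h w w.2
    obtain ⟨h1, h2⟩ := hgraph ⟨a, ha⟩ b w ⟨z, hz⟩ e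
    rw [h1, h2]
  -- the identification of the two spaces
  obtain ⟨z₁, hz₁, hz₁0⟩ := C.bot_or_exists_ne_zero.resolve_left hC
  obtain ⟨w₁, hw₁, hw₁0⟩ := C'.bot_or_exists_ne_zero.resolve_left hC'
  obtain ⟨a₀, ha₀, he₀⟩ := hAtr w₁ hw₁ hw₁0 z₁ hz₁
  have ha₀1 : a₀ ≠ 1 := fun e => hz₁0 (by rw [← he₀, e, one_smul, sub_self])
  have hφb : Function.Bijective (X ⟨a₀, ha₀⟩) := by
    refine ⟨(injective_iff_map_eq_zero _).mpr fun w hw => Subtype.ext ?_, fun z => ?_⟩
    · refine hAinj a₀ ha₀ ha₀1 w w.2 ?_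
      rw [hX ⟨a₀, ha₀⟩ w, hw]
      simp
    · obtain ⟨b, hb⟩ := hXY ⟨a₀, ha₀⟩ ha₀1
      exact ⟨_, hb z⟩
  let φ : C' ≃+ C := AddEquiv.ofBijective (X ⟨a₀, ha₀⟩) hφb
  let SA : A → AddMonoid.End C := fun a => (X a).comp φ.symm.toAddMonoidHom
  let SB : B → AddMonoid.End C := fun b => φ.toAddMonoidHom.comp (Y b)
  have hA1 : ∀ a : A, (a : P) = 1 → SA a = 0 := fun a ha => AddMonoidHom.ext fun z =>
    Subtype.ext (by show (a : P) • (φ.symm z : M) - (φ.symm z : M) = 0; rw [ha, one_smul, sub_self])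
  have hB1 : ∀ b : B, (b : P) = 1 → SB b = 0 := fun b hb => AddMonoidHom.ext fun z => by
    show φ (Y b z) = 0
    rw [show Y b z = 0 from Subtype.ext (by
      show (b : P) • (z : M) - (z : M) = 0; rw [hb, one_smul, sub_self]), map_zero]
  let Ahom : Additive A →+ AddMonoid.End C :=
    AddMonoidHom.mk' (fun a => SA a.toMul) fun a c => AddMonoidHom.ext fun z => Subtype.ext (by
      show (a.toMul * c.toMul : P) • (φ.symm z : M) - (φ.symm z : M) =
        ((a.toMul : P) • (φ.symm z : M) - φ.symm z) + ((c.toMul : P) • (φ.symm z : M) - φ.symm z)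
      rw [mul_smul, hX c.toMul, smul_add, hAfix a.toMul a.toMul.2 _ (X c.toMul _).2]
      abel)
  let Bhom : Additive B →+ AddMonoid.End C :=
    AddMonoidHom.mk' (fun b => SB b.toMul) fun b c => AddMonoidHom.ext fun z => by
      show φ (Y (b.toMul * c.toMul) z) = φ (Y b.toMul z) + φ (Y c.toMul z)
      rw [← map_add]
      congr 1
      refine Subtype.ext ?_
      show (b.toMul * c.toMul : P) • (z : M) - (z : M) =
        ((b.toMul : P) • (z : M) - z) + ((c.toMul : P) • (z : M) - z)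
      rw [mul_smul, hY c.toMul, smul_add, hBfix b.toMul b.toMul.2 _ (Y c.toMul _).2]
      abel
  set S := Ahom.range with hS
  set S' := Bhom.range with hS'
  have hmemS : ∀ a, SA a ∈ S := fun a => ⟨Additive.ofMul a, rfl⟩
  have hmemS' : ∀ b, SB b ∈ S' := fun b => ⟨Additive.ofMul b, rfl⟩
  have hSof : ∀ f ∈ S, ∃ a, SA a = f := fun f ⟨a, h⟩ => ⟨a.toMul, h⟩
  have hS'of : ∀ f ∈ S', ∃ b, SB b = f := fun f ⟨b, h⟩ => ⟨b.toMul, h⟩
  have h1S : (1 : AddMonoid.End C) ∈ S := by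
    have e : SA ⟨a₀, ha₀⟩ = 1 := AddMonoidHom.ext fun z => φ.apply_symm_apply z
    rw [← e]; exact hmemS _
  haveI : Nontrivial C := ⟨⟨⟨z₁, hz₁⟩, 0, fun e => hz₁0 (congrArg Subtype.val e)⟩⟩
  obtain ⟨F, hF, hFt, η, hSc, hcS, hS'S, hSS'⟩ := exists_field (ℓ := ℓ)
    (fun a : C => Subtype.ext (by rw [AddSubgroup.coe_nsmul]; exact hM _)) S S' h1S
    (fun f hf hf0 => by
      obtain ⟨a, rfl⟩ := hSof f hf
      obtain ⟨b, hb⟩ := hXY a fun e => hf0 (hA1 a e)
      exact ⟨_, hmemS' b, AddMonoidHom.ext fun z => by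
        show X a (φ.symm (φ (Y b z))) = z
        rw [φ.symm_apply_apply, hb]⟩)
    (fun g hg hg0 => by
      obtain ⟨b, rfl⟩ := hS'of g hg
      obtain ⟨a, ha⟩ := hYX b fun e => hg0 (hB1 b e)
      refine ⟨_, hmemS a, right_inv_of_left (AddMonoidHom.ext fun z => ?_)⟩
      show φ (Y b (X a (φ.symm z))) = z
      rw [ha, φ.apply_symm_apply])
    (fun x y hx => by
      obtain ⟨a, ha, e⟩ := hAtr (φ.symm x : M) (φ.symm x).2
        (fun h => hx (φ.symm.injective (by rw [map_zero]; exact Subtype.ext h))) y y.2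
      exact ⟨_, hmemS ⟨a, ha⟩, Subtype.ext e⟩)
  -- coordinates
  let E : (Fin 2 → F) → M := fun c => (η.symm (c 0) : M) + (φ.symm (η.symm (c 1)) : M)
  have hEb : Function.Bijective E := by
    refine ⟨fun c c' h => ?_, fun m => ?_⟩
    · obtain ⟨h1, h2⟩ := eq_of_compl hinf (η.symm (c 0)).2 (η.symm (c' 0)).2
        (φ.symm (η.symm (c 1))).2 (φ.symm (η.symm (c' 1))).2 h
      funext i
      fin_cases i
      · exact η.symm.injective (Subtype.ext h1)
      · exact η.symm.injective (φ.symm.injective (Subtype.ext h2))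
    · obtain ⟨z, hz, w, hw, rfl⟩ := AddSubgroup.mem_sup.mp (hsup ▸ AddSubgroup.mem_top m)
      exact ⟨![η ⟨z, hz⟩, η (φ ⟨w, hw⟩)], by simp [E]⟩
  have hEadd : ∀ c c', E (c + c') = E c + E c' := fun c c' => by
    simp only [E, Pi.add_apply, map_add, AddSubgroup.coe_add]; abel
  let eE : (Fin 2 → F) ≃+ M := { Equiv.ofBijective E hEb with map_add' := hEadd }
  have heE : ∀ c, eE c = E c := fun _ => rfl
  have h01 : (0 : Fin 2) ≠ 1 := by decide
  let ρ : P →* Equiv.Perm M := MulAction.toPermHom P M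
  have hρ : Function.Injective ρ := (injective_iff_map_eq_one _).mpr fun g hg =>
    hfaith g fun m => Equiv.congr_fun hg m
  let σ : Matrix.SpecialLinearGroup (Fin 2) F →* Equiv.Perm M :=
    eE.toEquiv.permCongrHom.toMonoidHom.comp (MulAction.toPermHom _ (Fin 2 → F))
  have hσ : Function.Injective σ := fun a b e1 => Linear.SL_ext_smul fun c => by
    have := Equiv.congr_fun (eE.toEquiv.permCongrHom.injective e1) c
    exact this
  have hσ_apply : ∀ (g : Matrix.SpecialLinearGroup (Fin 2) F) (m : M), σ g m = eE (g • eE.symm m) :=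
    fun _ _ => rfl
  have hup : ∀ (a : A) (c : F), (∀ x : C, η (SA a x) = c * η x) →
      σ (Matrix.SpecialLinearGroup.transvection h01 c) = ρ a := by
    intro a c hc
    refine Equiv.ext fun m => ?_
    obtain ⟨v, rfl⟩ := eE.surjective m
    rw [hσ_apply, eE.symm_apply_apply]
    show _ = (a : P) • eE v
    rw [heE, heE]
    simp only [E]
    have key : X a (φ.symm (η.symm (v 1))) = η.symm (c * v 1) := by
      refine η.injective ?_
      rw [η.apply_symm_apply, show X a (φ.symm (η.symm (v 1))) = SA a (η.symm (v 1)) from rfl, hc,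
        η.apply_symm_apply]
    rw [smul_add, hAfix a a.2 _ (η.symm (v 0)).2, hX a, key, Linear.transvection_smul_apply h01,
      Linear.transvection_smul_apply h01, if_pos rfl, if_neg h01.symm, add_zero, map_add,
      AddSubgroup.coe_add]
    abel
  have hlow : ∀ (b : B) (c : F), (∀ x : C, η (SB b x) = c * η x) →
      σ (Matrix.SpecialLinearGroup.transvection h01.symm c) = ρ b := by
    intro b c hc
    refine Equiv.ext fun m => ?_
    obtain ⟨v, rfl⟩ := eE.surjective m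
    rw [hσ_apply, eE.symm_apply_apply]
    show _ = (b : P) • eE v
    rw [heE, heE]
    simp only [E]
    have key : Y b (η.symm (v 0)) = φ.symm (η.symm (c * v 0)) := by
      refine φ.injective (η.injective ?_)
      rw [φ.apply_symm_apply, η.apply_symm_apply,
        show φ (Y b (η.symm (v 0))) = SB b (η.symm (v 0)) from rfl, hc, η.apply_symm_apply]
    rw [smul_add, hBfix b b.2 _ (φ.symm (η.symm (v 1))).2, hY b, key,
      Linear.transvection_smul_apply h01.symm, Linear.transvection_smul_apply h01.symm, if_pos rfl,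
      if_neg h01, add_zero, map_add, map_add, AddSubgroup.coe_add]
    abel
  have hrange : ρ.range = σ.range := by
    apply le_antisymm
    · rw [MonoidHom.range_eq_map, ← hgen, Subgroup.map_sup]
      refine sup_le ?_ ?_
      · rintro _ ⟨x, hx, rfl⟩
        obtain ⟨c, hc⟩ := hSc _ (hmemS ⟨x, hx⟩)
        exact ⟨_, hup ⟨x, hx⟩ c hc⟩
      · rintro _ ⟨x, hx, rfl⟩
        obtain ⟨c, hc⟩ := hSc _ (hS'S _ (hmemS' ⟨x, hx⟩))
        exact ⟨_, hlow ⟨x, hx⟩ c hc⟩
    · rintro _ ⟨N, rfl⟩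
      induction N using Linear.transvection_induction with
      | one => rw [map_one]; exact one_mem _
      | htr i j hij c =>
        obtain ⟨f, hf, hfc⟩ := hcS c
        obtain ⟨a, ha⟩ := hSof f hf
        obtain ⟨b, hb⟩ := hS'of f (hSS' f hf)
        fin_cases i <;> fin_cases j
        · exact absurd rfl hij
        · exact ⟨_, (hup a c (ha ▸ hfc)).symm⟩
        · exact ⟨_, (hlow b c (hb ▸ hfc)).symm⟩
        · exact absurd rfl hij
      | hmul a b ha hb => rw [map_mul]; exact mul_mem ha hb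
  let e : P ≃* Matrix.SpecialLinearGroup (Fin 2) F :=
    (MonoidHom.ofInjective hρ).trans ((MulEquiv.subgroupCongr hrange).trans (MonoidHom.ofInjective hσ).symm)
  have he : ∀ g, σ (e g) = ρ g := fun g =>
    congrArg Subtype.val ((MonoidHom.ofInjective hσ).apply_symm_apply
      (MulEquiv.subgroupCongr hrange (MonoidHom.ofInjective hρ g)))
  have hSAw : ∀ a : A, SA a (φ ⟨w₁, hw₁⟩) = X a ⟨w₁, hw₁⟩ := fun a =>
    congrArg (X a) (φ.symm_apply_apply _)
  refine ⟨F, hF, hFt, e, eE.symm, ?_, fun g m => ?_⟩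
  · rw [← Nat.card_eq_fintype_card]
    refine ((Nat.card_congr (Equiv.ofBijective
      (fun a : A => η (SA a (φ ⟨w₁, hw₁⟩))) ⟨fun a a' h => ?_, fun c => ?_⟩)).trans rfl).symm
    · have h1 := congrArg Subtype.val (η.injective h)
      rw [hSAw, hSAw] at h1
      change (a : P) • w₁ - w₁ = (a' : P) • w₁ - w₁ at h1
      by_contra hne
      refine hw₁0 (hAinj ((a' : P)⁻¹ * a) (mul_mem (inv_mem a'.2) a.2) (fun e => hne (Subtype.ext
        (inv_mul_eq_one.mp e).symm)) w₁ hw₁ ?_)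
      rw [mul_smul, sub_left_inj.mp h1, inv_smul_smul]
    · obtain ⟨a, ha, e⟩ := hAtr w₁ hw₁ hw₁0 (η.symm c) (η.symm c).2
      refine ⟨⟨a, ha⟩, ?_⟩
      show η (SA ⟨a, ha⟩ (φ ⟨w₁, hw₁⟩)) = c
      rw [hSAw, show X ⟨a, ha⟩ ⟨w₁, hw₁⟩ = η.symm c from Subtype.ext e, η.apply_symm_apply]
  · have h := Equiv.congr_fun (he g) m
    rw [hσ_apply] at h
    rw [show g • m = ρ g m from rfl, ← h, eE.symm_apply_apply]
    rfl

end

end Cfsg.Agent.H31.SL2Pair
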