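import Cfsg.Agent.H46.SpreadComm

/-!
A space of matrices over a prime field which contains `1`, is closed under `(A, X) ↦ A * X * A`
and has all its nonzero members invertible is commutative (the characteristic two case is in
`H46.SpreadComm`).
-/

namespace Cfsg.Agent.H31.SL2Pair

open Matrix
open scoped Polynomial
open H46 (genMat eval_genMat scaleTot scaleTot_charpoly_natDegree totalDegree_le_of_scaleTot)

noncomputable section

theorem spread_comm_fin {ℓ : ℕ} [hℓ : Fact ℓ.Prime] {k n : ℕ} [NeZero n] (S : Submodule (ZMod ℓ) (Matrix (Fin n) (Fin n) (ZMod ℓ)))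
    (B : Module.Basis (Fin k) (ZMod ℓ) ↥S) (h1 : (1 : Matrix (Fin n) (Fin n) (ZMod ℓ)) ∈ S)
    (hU : ∀ A ∈ S, ∀ Y ∈ S, A * Y * A ∈ S) (hinv : ∀ A ∈ S, A ≠ 0 → IsUnit A) :
    ∀ i j, (B i : Matrix (Fin n) (Fin n) (ZMod ℓ)) * B j = B j * B i := by
  classical
  set A := genMat (fun i => (B i : Matrix (Fin n) (Fin n) (ZMod ℓ))) with hA
  let liftC : Matrix (Fin n) (Fin n) (ZMod ℓ) → Matrix (Fin n) (Fin n) (MvPolynomial (Fin k) (ZMod ℓ)) :=
    fun M => M.map MvPolynomial.C
  let SR : Submodule (MvPolynomial (Fin k) (ZMod ℓ))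
      (Matrix (Fin n) (Fin n) (MvPolynomial (Fin k) (ZMod ℓ))) :=
    Submodule.span _ (Set.range fun i => liftC (B i))
  have hlift : ∀ M ∈ S, liftC M ∈ SR := by
    intro M hM
    have h := congrArg Subtype.val (B.sum_repr ⟨M, hM⟩)
    simp only [Submodule.coe_sum, Submodule.coe_smul] at h
    have e : liftC M = ∑ i, (MvPolynomial.C (B.repr ⟨M, hM⟩ i) : MvPolynomial (Fin k) (ZMod ℓ)) •
        liftC (B i) := by
      conv_lhs => rw [← h]
      ext a b
      simp [liftC, Matrix.sum_apply]
    rw [e]
    exact sum_mem fun i _ => Submodule.smul_mem _ _ (Submodule.subset_span ⟨i, rfl⟩)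
  have hmulC : ∀ M N, liftC (M * N) = liftC M * liftC N := fun M N => Matrix.map_mul
  have hsand : ∀ Y ∈ S, A * liftC Y * A ∈ SR := by
    intro Y hY
    suffices H : ∀ s : Finset (Fin k),
        (∑ i ∈ s, (MvPolynomial.X i : MvPolynomial (Fin k) (ZMod ℓ)) • liftC (B i)) * liftC Y *
          (∑ i ∈ s, (MvPolynomial.X i : MvPolynomial (Fin k) (ZMod ℓ)) • liftC (B i)) ∈ SR by
      exact H Finset.univ
    intro s
    induction s using Finset.induction_on with
    | empty => simp
    | insert a s has ih =>
      rw [Finset.sum_insert has]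
      set T := ∑ i ∈ s, (MvPolynomial.X i : MvPolynomial (Fin k) (ZMod ℓ)) • liftC (B i) with hT
      set Z := (MvPolynomial.X a : MvPolynomial (Fin k) (ZMod ℓ)) • liftC (B a) with hZ
      have e : (Z + T) * liftC Y * (Z + T) =
          Z * liftC Y * Z + (Z * liftC Y * T + T * liftC Y * Z) + T * liftC Y * T := by
        simp only [add_mul, mul_add]; abel
      rw [e]
      refine add_mem (add_mem ?_ ?_) ih
      · rw [hZ]
        simp only [smul_mul_assoc, mul_smul_comm, ← hmulC]
        exact SR.smul_mem _ (SR.smul_mem _ (hlift _ (hU _ (B a).2 _ hY)))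
      · rw [hT, hZ, Finset.mul_sum, Finset.sum_mul, Finset.sum_mul, ← Finset.sum_add_distrib]
        refine sum_mem fun i _ => ?_
        simp only [smul_mul_assoc, mul_smul_comm, smul_smul]
        rw [mul_comm (MvPolynomial.X i), ← smul_add, ← hmulC, ← hmulC, ← hmulC, ← hmulC]
        refine SR.smul_mem _ ?_
        have hp : (B a : Matrix (Fin n) (Fin n) (ZMod ℓ)) * Y * B i + (B i : Matrix (Fin n) (Fin n) (ZMod ℓ)) * Y * B a =
            ((B a : Matrix (Fin n) (Fin n) (ZMod ℓ)) + B i) * Y * (B a + B i) - B a * Y * B a - B i * Y * B i := by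
          simp only [add_mul, mul_add]; abel
        have hmem : (B a : Matrix (Fin n) (Fin n) (ZMod ℓ)) * Y * B i + (B i : Matrix (Fin n) (Fin n) (ZMod ℓ)) * Y * B a ∈ S := by
          rw [hp]
          exact sub_mem (sub_mem (hU _ (add_mem (B a).2 (B i).2) _ hY) (hU _ (B a).2 _ hY))
            (hU _ (B i).2 _ hY)
        have := hlift _ hmem
        rwa [show liftC ((B a : Matrix (Fin n) (Fin n) (ZMod ℓ)) * Y * B i + (B i : Matrix (Fin n) (Fin n) (ZMod ℓ)) * Y * B a) =
            liftC ((B a : Matrix (Fin n) (Fin n) (ZMod ℓ)) * Y * B i) + liftC ((B i : Matrix (Fin n) (Fin n) (ZMod ℓ)) * Y * B a) from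
          Matrix.map_add _ (fun x y => map_add MvPolynomial.C x y) _ _] at this
  have hsand' : ∀ Y ∈ SR, A * Y * A ∈ SR := by
    intro Y hY
    induction hY using Submodule.span_induction with
    | mem y hy => obtain ⟨i, rfl⟩ := hy; exact hsand _ (B i).2
    | zero => simp
    | add u w _ _ hu hw => rw [mul_add, add_mul]; exact add_mem hu hw
    | smul c u _ hu => rw [mul_smul_comm, smul_mul_assoc]; exact SR.smul_mem c hu
  have hpow : ∀ e, A ^ e ∈ SR := by
    intro p
    induction p using Nat.strong_induction_on with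
    | _ p ih =>
      rcases p with _ | _ | p
      · rw [pow_zero]
        have := hlift 1 h1
        rwa [show liftC 1 = 1 from Matrix.map_one _ MvPolynomial.C_0 MvPolynomial.C_1] at this
      · rw [pow_one]
        exact sum_mem fun i _ => SR.smul_mem _ (Submodule.subset_span ⟨i, rfl⟩)
      · have := hsand' _ (ih p (by omega))
        rwa [← pow_succ', ← pow_succ] at this
  have hco : ∀ p : Fin k, ∃ c : Fin k → MvPolynomial (Fin k) (ZMod ℓ),
      ∑ i, c i • liftC (B i) = A ^ (p : ℕ) := fun p =>
    Submodule.mem_span_range_iff_exists_fun _ |>.mp (hpow p)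
  choose c hc using hco
  let C₀ : Matrix (Fin k) (Fin k) (MvPolynomial (Fin k) (ZMod ℓ)) := Matrix.of c
  by_cases hD : C₀.det = 0
  · -- the norm has degree less than the number of variables
    exfalso
    obtain ⟨w, hw0, hw⟩ := Matrix.exists_vecMul_eq_zero_iff.mpr hD
    set f : (MvPolynomial (Fin k) (ZMod ℓ))[X] := ∑ p : Fin k, Polynomial.C (w p) * Polynomial.X ^ (p : ℕ)
      with hfdef
    have hfA : Polynomial.aeval A f = 0 := by
      simp only [hfdef, map_sum, map_mul, map_pow, Polynomial.aeval_C, Polynomial.aeval_X,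
        ← Algebra.smul_def, ← hc, Finset.smul_sum, smul_smul]
      rw [Finset.sum_comm]
      refine Finset.sum_eq_zero fun i _ => ?_
      rw [← Finset.sum_smul]
      have := congrFun hw i
      simp only [Matrix.vecMul, dotProduct, C₀, Matrix.of_apply, Pi.zero_apply] at this
      rw [this, zero_smul]
    have hk : 0 < k := by
      rcases Nat.eq_zero_or_pos k with h | h
      · subst h; exact absurd (funext fun i => i.elim0) hw0
      · exact h
    have hf0 : f ≠ 0 := by
      obtain ⟨p, hp⟩ := Function.ne_iff.mp hw0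
      intro e
      have := congrArg (fun g => Polynomial.coeff g (p : ℕ)) e
      simp [hfdef, Polynomial.finsetSum_coeff, Polynomial.coeff_C_mul, Polynomial.coeff_X_pow,
        Fin.val_inj] at this
      exact hp this
    have hfdeg : f.natDegree < k := by
      refine lt_of_le_of_lt (Polynomial.natDegree_sum_le_of_forall_le _ _ (n := k - 1) fun p _ => ?_) (by omega)
      exact (Polynomial.natDegree_C_mul_X_pow_le _ _).trans (by have := p.2; omega)
    let K := FractionRing (MvPolynomial (Fin k) (ZMod ℓ))
    let φ : MvPolynomial (Fin k) (ZMod ℓ) →+* K := algebraMap _ K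
    have hφ : Function.Injective φ := IsFractionRing.injective _ K
    let AK : Matrix (Fin n) (Fin n) K := A.map φ
    have hfK : Polynomial.aeval AK (f.map φ) = 0 := by
      have := Polynomial.map_aeval_eq_aeval_map (φ := φ) (ψ := φ.mapMatrix) (by
        refine RingHom.ext fun r => ?_
        show algebraMap K (Matrix (Fin n) (Fin n) K) (φ r) = (algebraMap _ (Matrix (Fin n) (Fin n) (MvPolynomial (Fin k) (ZMod ℓ))) r).map φ
        rw [Matrix.algebraMap_eq_diagonal, Matrix.algebraMap_eq_diagonal, Matrix.diagonal_map (map_zero φ)]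
        rfl) f A
      rw [hfA, map_zero] at this
      exact this.symm
    have hAKi : IsIntegral K AK := Algebra.IsIntegral.isIntegral AK
    have hdeg : (minpoly K AK).natDegree < k := by
      refine lt_of_le_of_lt (Polynomial.natDegree_le_of_dvd (minpoly.dvd K AK hfK) ?_) ?_
      · exact (Polynomial.map_ne_zero_iff hφ).mpr hf0
      · rwa [Polynomial.natDegree_map_eq_of_injective hφ]
    have hdvd : minpoly K AK ∣ A.charpoly.map φ := by
      rw [← Matrix.charpoly_map]; exact Matrix.minpoly_dvd_charpoly AK
    obtain ⟨q, hq⟩ := IsIntegrallyClosed.eq_map_mul_C_of_dvd K A.charpoly_monic hdvd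
    rw [(minpoly.monic hAKi).leadingCoeff, Polynomial.C_1, mul_one] at hq
    have hqm : q.Monic := Polynomial.monic_of_injective hφ (hq ▸ minpoly.monic hAKi)
    obtain ⟨r, hr⟩ := Polynomial.Monic.dvd_of_fraction_map_dvd_fraction_map (K := K) A.charpoly_monic hqm
      (hq ▸ hdvd)
    have hrm : r.Monic := hqm.of_mul_monic_left (hr ▸ A.charpoly_monic)
    have hm : q.natDegree < k := by
      rwa [← Polynomial.natDegree_map_eq_of_injective hφ q, hq]
    have hlow : ∀ p : (MvPolynomial (Fin k) (ZMod ℓ))[X], p.Monic →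
        p.natDegree ≤ (scaleTot p).natDegree := by
      intro p hp
      let η : MvPolynomial (Fin k) (ZMod ℓ) →+* ZMod ℓ := MvPolynomial.eval 0
      have e : ((Polynomial.mapRingHom (Polynomial.mapRingHom η)).comp scaleTot) =
          Polynomial.eval₂RingHom ((Polynomial.C.comp Polynomial.C).comp η)
            (Polynomial.X * Polynomial.C Polynomial.X) := by
        refine Polynomial.ringHom_ext' (MvPolynomial.ringHom_ext (fun a => ?_) (fun i => ?_)) ?_ <;>
          simp [scaleTot, η]
      have e' : (scaleTot p).map (Polynomial.mapRingHom η) =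
          Polynomial.eval₂RingHom ((Polynomial.C.comp Polynomial.C).comp η)
            (Polynomial.X * Polynomial.C Polynomial.X) p := RingHom.congr_fun e p
      refine le_trans ?_ (Polynomial.natDegree_map_le (f := Polynomial.mapRingHom η))
      rw [e']
      refine Polynomial.le_natDegree_of_ne_zero ?_
      intro h
      rw [Polynomial.coe_eval₂RingHom, Polynomial.eval₂_eq_sum_range, Polynomial.finsetSum_coeff] at h
      rw [Finset.sum_range_succ, Finset.sum_eq_zero (fun i hi => ?_)] at h
      · rw [hp.coeff_natDegree, map_one, one_mul, mul_pow, ← map_pow Polynomial.C,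
          Polynomial.coeff_mul_C, Polynomial.coeff_X_pow, if_pos rfl, one_mul, zero_add] at h
        exact (Polynomial.monic_X_pow _).ne_zero h
      · have : p.natDegree ≠ i := by have := Finset.mem_range.mp hi; omega
        rw [RingHom.comp_apply, RingHom.comp_apply, Polynomial.coeff_C_mul, mul_pow, ← map_pow Polynomial.C,
          Polynomial.coeff_mul_C, Polynomial.coeff_X_pow, if_neg this, zero_mul, mul_zero]
    have hne : ∀ p : (MvPolynomial (Fin k) (ZMod ℓ))[X], p.Monic → scaleTot p ≠ 0 := by
      intro p hp e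
      have e1 : ((scaleTot p).eval 1) = p := by
        have : (Polynomial.evalRingHom (1 : (MvPolynomial (Fin k) (ZMod ℓ))[X])).comp scaleTot =
            RingHom.id _ := by
          refine Polynomial.ringHom_ext' (MvPolynomial.ringHom_ext (fun a => ?_) (fun i => ?_)) ?_ <;>
            simp [scaleTot]
        exact RingHom.congr_fun this p
      rw [e, Polynomial.eval_zero] at e1
      exact hp.ne_zero e1.symm
    have hqd : (scaleTot q).natDegree ≤ q.natDegree := by
      have hA' := scaleTot_charpoly_natDegree (fun i => (B i : Matrix (Fin n) (Fin n) (ZMod ℓ)))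
      rw [← hA, hr, map_mul, Polynomial.natDegree_mul (hne q hqm) (hne r hrm)] at hA'
      have hn : q.natDegree + r.natDegree = n := by
        rw [← hqm.natDegree_mul hrm, ← hr, Matrix.charpoly_natDegree_eq_dim, Fintype.card_fin]
      have := hlow r hrm
      omega
    have hN : (q.coeff 0).totalDegree ≤ q.natDegree := by
      refine totalDegree_le_of_scaleTot _ (le_trans ?_ hqd)
      let τ : (MvPolynomial (Fin k) (ZMod ℓ))[X] →+* (MvPolynomial (Fin k) (ZMod ℓ))[X] :=
        Polynomial.C.comp (Polynomial.evalRingHom 0)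
      have e : (Polynomial.mapRingHom τ).comp scaleTot = scaleTot.comp τ := by
        refine Polynomial.ringHom_ext' (MvPolynomial.ringHom_ext (fun a => ?_) (fun i => ?_)) ?_ <;>
          simp [scaleTot, τ]
      have e' : (scaleTot q).map τ = scaleTot (τ q) := RingHom.congr_fun e q
      have eτ : τ q = Polynomial.C (q.coeff 0) := by simp [τ, Polynomial.coeff_zero_eq_eval_zero]
      rw [← eτ, ← e']
      exact Polynomial.natDegree_map_le
    have hnz : ∀ x : Fin k → ZMod ℓ, x ≠ 0 → MvPolynomial.eval x (q.coeff 0) ≠ 0 := by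
      intro x hx e
      have h2 : MvPolynomial.eval x (A.charpoly.coeff 0) = 0 := by
        rw [hr, Polynomial.mul_coeff_zero, map_mul, e, zero_mul]
      have h3 : ((∑ i, x i • (B i : Matrix (Fin n) (Fin n) (ZMod ℓ))).charpoly).coeff 0 = 0 := by
        rw [← eval_genMat, ← hA, Matrix.charpoly_map, Polynomial.coeff_map]
        exact h2
      set M := ∑ i, x i • (B i : Matrix (Fin n) (Fin n) (ZMod ℓ))
      have hMS : M ∈ S := sum_mem fun i _ => S.smul_mem _ (B i).2
      have hM0 : M ≠ 0 := by
        intro e0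
        refine hx (funext fun i => ?_)
        have : (∑ i, x i • B i : ↥S) = 0 := Subtype.ext (by simpa [M] using e0)
        exact Fintype.linearIndependent_iff.mp B.linearIndependent x this i
      have hu := (Matrix.isUnit_iff_isUnit_det M).mp (hinv M hMS hM0)
      rw [Matrix.det_eq_sign_charpoly_coeff, h3, mul_zero] at hu
      exact not_isUnit_zero hu
    have h0 : MvPolynomial.eval (0 : Fin k → ZMod ℓ) (q.coeff 0) = 0 := by
      let η : MvPolynomial (Fin k) (ZMod ℓ) →+* ZMod ℓ := MvPolynomial.eval 0
      have hq' : q.map η ∣ (Polynomial.X : (ZMod ℓ)[X]) ^ n := by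
        have : (0 : Matrix (Fin n) (Fin n) (ZMod ℓ)).charpoly = Polynomial.X ^ n := by
          simp [Matrix.charpoly, Matrix.charmatrix]
        rw [← this, show (0 : Matrix (Fin n) (Fin n) (ZMod ℓ)) = A.map η by
          rw [hA, eval_genMat]; simp, Matrix.charpoly_map, hr, Polynomial.map_mul]
        exact dvd_mul_right _ _
      obtain ⟨j, hj, hj'⟩ := (dvd_prime_pow Polynomial.prime_X n).mp hq'
      have hpos : 0 < q.natDegree := by
        rw [← Polynomial.natDegree_map_eq_of_injective hφ q, hq]
        exact minpoly.natDegree_pos hAKi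
      have hX : q.map η = Polynomial.X ^ j :=
        Polynomial.eq_of_monic_of_associated (hqm.map η) (Polynomial.monic_X_pow j) hj'
      have hj0 : j ≠ 0 := by
        intro h
        have := congrArg Polynomial.natDegree hX
        rw [hqm.natDegree_map, h, pow_zero, Polynomial.natDegree_one] at this
        omega
      show η (q.coeff 0) = 0
      rw [← Polynomial.coeff_map, hX, Polynomial.coeff_X_pow, if_neg (Ne.symm hj0)]
    have hcw := char_dvd_card_solutions (K := ZMod ℓ) (σ := Fin k) ℓ (f := q.coeff 0)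
      (by rw [Fintype.card_fin]; omega)
    haveI : Unique {x : Fin k → ZMod ℓ // MvPolynomial.eval x (q.coeff 0) = 0} :=
      { default := ⟨0, h0⟩
        uniq := fun x => Subtype.ext (not_not.mp fun h => hnz x.1 h x.2) }
    rw [Fintype.card_unique] at hcw
    exact hℓ.out.not_dvd_one hcw
  · -- the generic powers span
    intro i j
    have hadj : ∀ i, C₀.det • liftC (B i) = ∑ p : Fin k, C₀.adjugate i p • A ^ (p : ℕ) := by
      intro i
      simp only [← hc, Finset.smul_sum, smul_smul]
      rw [Finset.sum_comm]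
      have : ∀ l, (∑ p : Fin k, (C₀.adjugate i p * c p l) • liftC (B l)) =
          (if i = l then C₀.det else 0) • liftC (B l) := fun l => by
        rw [← Finset.sum_smul]
        congr 1
        have := congrFun (congrFun C₀.adjugate_mul i) l
        simpa [Matrix.mul_apply, C₀, Matrix.one_apply] using this
      rw [Finset.sum_congr rfl fun l _ => this l, Finset.sum_eq_single i]
      · rw [if_pos rfl]
      · intro l _ hl; rw [if_neg (Ne.symm hl), zero_smul]
      · simp
    have hcomm : Commute (C₀.det • liftC (B i)) (C₀.det • liftC (B j)) := by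
      rw [hadj, hadj]
      refine Commute.sum_left _ _ _ fun p _ => Commute.sum_right _ _ _ fun p' _ => ?_
      exact ((Commute.pow_pow_self A p p').smul_left _).smul_right _
    have h2 : (C₀.det * C₀.det) • (liftC (B i) * liftC (B j)) =
        (C₀.det * C₀.det) • (liftC (B j) * liftC (B i)) := by
      have := hcomm.eq
      simpa only [smul_mul_assoc, mul_smul_comm, smul_smul] using this
    have h3 := smul_right_injective _ (mul_ne_zero hD hD) h2
    rw [← hmulC, ← hmulC] at h3
    exact Matrix.map_injective (MvPolynomial.C_injective _ _) h3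

/-- Commutativity for additive subgroups of endomorphisms of a finite elementary abelian p-group. -/
theorem spread_comm {ℓ : ℕ} [hℓ : Fact ℓ.Prime] {A : Type*} [AddCommGroup A] [Finite A] [Nontrivial A]
    (h2 : ∀ a : A, ℓ • a = 0)
    (S : AddSubgroup (AddMonoid.End A)) (h1 : (1 : AddMonoid.End A) ∈ S)
    (hU : ∀ f ∈ S, ∀ g ∈ S, f * g * f ∈ S)
    (hinv : ∀ f ∈ S, f ≠ 0 → Function.Bijective f) :
    ∀ f ∈ S, ∀ g ∈ S, f * g = g * f := by
  letI : Module (ZMod ℓ) A := AddCommGroup.zmodModule (n := ℓ) h2
  haveI : Module.Finite (ZMod ℓ) A := Module.Finite.of_finite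
  set n := Module.finrank (ZMod ℓ) A
  haveI : NeZero n := ⟨fun h => by
    have h1 := Module.natCard_eq_pow_finrank (K := ZMod ℓ) (V := A)
    rw [show Module.finrank (ZMod ℓ) A = 0 from h, pow_zero] at h1
    exact absurd h1 (Finite.one_lt_card (α := A)).ne'⟩
  let b : Module.Basis (Fin n) (ZMod ℓ) A := @Module.finBasis (ZMod ℓ) A _ _ _ _ _ _
  let e0 : AddMonoid.End A ≃+* Module.End (ZMod ℓ) A :=
    { toFun := fun f => AddMonoidHom.toZModLinearMap ℓ f
      invFun := fun f => f.toAddMonoidHom
      left_inv := fun f => rfl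
      right_inv := fun f => rfl
      map_mul' := fun f g => rfl
      map_add' := fun f g => rfl }
  let e : AddMonoid.End A ≃+* Matrix (Fin n) (Fin n) (ZMod ℓ) :=
    e0.trans (LinearMap.toMatrixAlgEquiv b).toRingEquiv
  let T : AddSubgroup (Matrix (Fin n) (Fin n) (ZMod ℓ)) := S.map e.toAddMonoidHom
  let TM : Submodule (ZMod ℓ) (Matrix (Fin n) (Fin n) (ZMod ℓ)) := AddSubgroup.toZModSubmodule ℓ T
  have hmem : ∀ f ∈ S, e f ∈ TM := fun f hf => ⟨f, hf, rfl⟩
  have hT : ∀ M ∈ TM, ∃ f ∈ S, e f = M := fun M hM => hM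
  have hTu : ∀ M ∈ TM, M ≠ 0 → IsUnit M := by
    intro M hM hM0
    obtain ⟨f, hf, rfl⟩ := hT M hM
    have hf0 : f ≠ 0 := fun h => hM0 (by rw [h, map_zero])
    let g := AddEquiv.ofBijective f (hinv f hf hf0)
    have hu : IsUnit f := ⟨⟨f, g.symm.toAddMonoidHom, AddMonoidHom.ext fun a => g.apply_symm_apply a,
      AddMonoidHom.ext fun a => g.symm_apply_apply a⟩, rfl⟩
    exact hu.map e
  haveI : Module.Finite (ZMod ℓ) ↥TM := Module.Finite.of_finite
  let B := Module.finBasis (ZMod ℓ) ↥TM
  have key := spread_comm_fin TM B (by simpa using hmem 1 h1) (fun M hM N hN => by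
    obtain ⟨f, hf, rfl⟩ := hT M hM
    obtain ⟨g, hg, rfl⟩ := hT N hN
    rw [← map_mul, ← map_mul]
    exact hmem _ (hU f hf g hg)) hTu
  intro f hf g hg
  apply e.injective
  rw [map_mul, map_mul]
  have hx := congrArg Subtype.val (B.sum_repr ⟨_, hmem f hf⟩)
  have hy := congrArg Subtype.val (B.sum_repr ⟨_, hmem g hg⟩)
  simp only [Submodule.coe_sum, Submodule.coe_smul] at hx hy
  rw [← hx, ← hy]
  exact (Commute.sum_left _ _ _ fun i _ => Commute.sum_right _ _ _ fun j _ =>
    ((show Commute _ _ from key i j).smul_left _).smul_right _).eq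

end

end Cfsg.Agent.H31.SL2Pair
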