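import Cfsg.Agent.H31.SL2Pair.SpreadComm

/-!
Two groups of endomorphisms exchanged by inversion, one of them containing `1` and transitive on
the nonzero vectors, are the multiplications of a field.
-/

namespace Cfsg.Agent.H31.SL2Pair

noncomputable section

/-- A type of size `m` without arithmetic. -/
structure Box (m : ℕ) : Type where
  /-- the index -/
  out : Fin m

/-- `Box m` is `Fin m`. -/
def boxEquiv (m : ℕ) : Box m ≃ Fin m := ⟨Box.out, Box.mk, fun _ => rfl, fun _ => rfl⟩

universe v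

theorem right_inv_of_left {A : Type v} [AddCommGroup A] [Finite A] {p q : AddMonoid.End A}
    (h : p * q = 1) : q * p = 1 := by
  have hqi : Function.Injective q := fun x y e => by
    have hx := DFunLike.congr_fun h x
    have hy := DFunLike.congr_fun h y
    calc x = p (q x) := hx.symm
      _ = p (q y) := by rw [e]
      _ = y := hy
  refine AddMonoidHom.ext fun x => ?_
  obtain ⟨y, rfl⟩ := (Finite.injective_iff_surjective.mp hqi) x
  show q (p (q y)) = q y
  exact congrArg q (DFunLike.congr_fun h y)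

theorem exists_field {ℓ : ℕ} [Fact ℓ.Prime] {A : Type v} [AddCommGroup A] [Finite A] [Nontrivial A]
    (hA : ∀ a : A, ℓ • a = 0) (S S' : AddSubgroup (AddMonoid.End A)) (h1 : (1 : AddMonoid.End A) ∈ S)
    (inv₁ : ∀ f ∈ S, f ≠ 0 → ∃ g ∈ S', f * g = 1) (inv₂ : ∀ g ∈ S', g ≠ 0 → ∃ f ∈ S, f * g = 1)
    (htr : ∀ a x : A, a ≠ 0 → ∃ f ∈ S, f a = x) :
    ∃ (F : Type) (_ : Field F) (_ : Fintype F) (η : A ≃+ F),
      (∀ f ∈ S, ∃ c : F, ∀ a, η (f a) = c * η a) ∧ (∀ c : F, ∃ f ∈ S, ∀ a, η (f a) = c * η a) ∧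
      (∀ g ∈ S', g ∈ S) ∧ (∀ f ∈ S, f ∈ S') := by
  obtain ⟨a₀, ha₀⟩ := exists_ne (0 : A)
  haveI : Nontrivial (AddMonoid.End A) :=
    ⟨⟨1, 0, fun e => ha₀ (DFunLike.congr_fun e a₀)⟩⟩
  have hnz : ∀ f q : AddMonoid.End A, f * q = 1 → f ≠ 0 ∧ q ≠ 0 := fun f q h =>
    ⟨fun e => one_ne_zero (α := AddMonoid.End A) (by rw [← h, e, zero_mul]),
      fun e => one_ne_zero (α := AddMonoid.End A) (by rw [← h, e, mul_zero])⟩
  have hua : ∀ f ∈ S, ∀ b ∈ S', f * b * f ∈ S := by
    intro f hf b hb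
    by_cases hf0 : f = 0
    · simp [hf0]
    by_cases hb0 : b = 0
    · simp [hb0]
    obtain ⟨b', hb', hbb⟩ := inv₂ b hb hb0
    by_cases hD : b' - f = 0
    · rw [← sub_eq_zero.mp hD, mul_assoc, right_inv_of_left hbb, mul_one]; exact hb'
    obtain ⟨f', hf', hff⟩ := inv₁ f hf hf0
    obtain ⟨D', hD', hDD⟩ := inv₁ _ (sub_mem hb' hf) hD
    have hsum : f' + D' = f' * b' * D' := by
      calc f' + D' = f' * ((b' - f) * D') + f' * f * D' := by
            rw [hDD, mul_one, right_inv_of_left hff, one_mul]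
        _ = _ := by noncomm_ring
    have hinv : (f' + D') * ((b' - f) * b * f) = 1 := by
      rw [hsum]
      calc f' * b' * D' * ((b' - f) * b * f) = f' * b' * (D' * (b' - f)) * b * f := by noncomm_ring
        _ = f' * (b' * b) * f := by rw [right_inv_of_left hDD]; noncomm_ring
        _ = _ := by rw [hbb, mul_one, right_inv_of_left hff]
    obtain ⟨e, he, hee⟩ := inv₂ _ (add_mem hf' hD') (hnz _ _ hinv).1
    have hu : (b' - f) * b * f = e := by
      calc (b' - f) * b * f = (e * (f' + D')) * ((b' - f) * b * f) := by rw [hee, one_mul]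
        _ = e := by rw [mul_assoc, hinv, mul_one]
    have e1 : f * b * f = f - e := by
      rw [← hu, sub_mul, hbb, sub_mul, one_mul]; abel
    rw [e1]; exact sub_mem hf he
  have hS'S : ∀ g ∈ S', g ∈ S := fun g hg => by simpa using hua 1 h1 g hg
  have hSS' : ∀ f ∈ S, f ∈ S' := fun f hf => by
    by_cases h0 : f = 0
    · rw [h0]; exact zero_mem _
    obtain ⟨f', hf', hff⟩ := inv₁ f hf h0
    obtain ⟨f'', hf'', hff'⟩ := inv₁ f' (hS'S f' hf') (hnz _ _ hff).2
    have : f = f'' := by
      calc f = f * (f' * f'') := by rw [hff', mul_one]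
        _ = f'' := by rw [← mul_assoc, hff, one_mul]
    rw [this]; exact hf''
  have hbij : ∀ f ∈ S, f ≠ 0 → Function.Bijective f := fun f hf h0 => by
    obtain ⟨g, -, hg⟩ := inv₁ f hf h0
    exact ⟨fun x y e => by
      have hx := DFunLike.congr_fun (right_inv_of_left hg) x
      have hy := DFunLike.congr_fun (right_inv_of_left hg) y
      calc x = g (f x) := hx.symm
        _ = g (f y) := by rw [e]
        _ = y := hy, fun x => ⟨g x, DFunLike.congr_fun hg x⟩⟩
  have hcomm := spread_comm hA S h1 (fun f hf b hb => hua f hf b (hSS' b hb)) hbij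
  have hmul : ∀ f ∈ S, ∀ g ∈ S, f * g ∈ S := by
    intro f hf g hg
    obtain ⟨k, hk, hka⟩ := htr a₀ (f (g a₀)) ha₀
    suffices h : f * g = k by rw [h]; exact hk
    refine AddMonoidHom.ext fun x => ?_
    obtain ⟨q, hq, rfl⟩ := htr a₀ x ha₀
    show f (g (q a₀)) = k (q a₀)
    have e1 : g (q a₀) = q (g a₀) := DFunLike.congr_fun (hcomm g hg q hq) a₀
    have e2 : f (q (g a₀)) = q (f (g a₀)) := DFunLike.congr_fun (hcomm f hf q hq) (g a₀)
    have e3 : k (q a₀) = q (k a₀) := DFunLike.congr_fun (hcomm k hk q hq) a₀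
    rw [e1, e2, e3, hka]
  let K : Subring (AddMonoid.End A) :=
    { carrier := {f | f ∈ S}
      mul_mem' := fun hf hb => hmul _ hf _ hb
      one_mem' := h1
      add_mem' := fun {f b} (hf : f ∈ S) (hb : b ∈ S) => S.add_mem hf hb
      zero_mem' := zero_mem S
      neg_mem' := fun {f} (hf : f ∈ S) => S.neg_mem hf }
  letI : CommRing ↥K :=
    { (inferInstance : Ring ↥K) with mul_comm := fun a b => Subtype.ext (hcomm a a.2 b b.2) }
  haveI : IsDomain ↥K := by
    haveI : Nontrivial ↥K :=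
      ⟨⟨1, 0, fun e => one_ne_zero (α := AddMonoid.End A) (congrArg Subtype.val e)⟩⟩
    haveI : NoZeroDivisors ↥K := ⟨fun {a b} hab => by
      by_contra hh
      push Not at hh
      refine hh.2 (Subtype.ext (AddMonoidHom.ext fun x => ?_))
      refine (hbij a a.2 fun e => hh.1 (Subtype.ext e)).1 ?_
      have := DFunLike.congr_fun (congrArg Subtype.val hab) x
      show (a : AddMonoid.End A) ((b : AddMonoid.End A) x) = (a : AddMonoid.End A) 0
      rw [map_zero]
      exact this⟩
    exact NoZeroDivisors.to_isDomain _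
  haveI : Finite ↥K := Finite.of_injective (fun f : ↥K => ((f : AddMonoid.End A) : A → A))
    (fun f f' he => Subtype.ext (DFunLike.coe_injective he))
  letI : Field ↥K := (Finite.isField_of_domain ↥K).toField
  have hev : Function.Bijective (fun f : ↥K => (f : AddMonoid.End A) a₀) := by
    refine ⟨fun f f' e1 => Subtype.ext (sub_eq_zero.mp ?_), fun x => ?_⟩
    · by_contra hne
      refine ha₀ ((hbij _ (sub_mem f.2 f'.2) hne).1 ?_)
      rw [map_zero]
      exact sub_eq_zero.mpr e1
    · obtain ⟨q, hq, e⟩ := htr a₀ x ha₀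
      exact ⟨⟨q, hq⟩, e⟩
  let eA : ↥K ≃+ A :=
    { Equiv.ofBijective _ hev with map_add' := fun f f' => rfl }
  obtain ⟨m, ⟨eK⟩⟩ := Finite.exists_equiv_fin ↥K
  let eB : ↥K ≃ Box m := eK.trans (boxEquiv m).symm
  haveI : Finite (Box m) := Finite.of_equiv _ (boxEquiv m).symm
  letI ft : Fintype (Box m) := Fintype.ofEquiv _ (boxEquiv m).symm
  letI fm : Field (Box m) := eB.symm.field
  let rK : ↥K ≃+* Box m :=
    { eB with
      map_mul' := fun x y => by
        show eB (x * y) = eB (eB.symm (eB x) * eB.symm (eB y))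
        rw [eB.symm_apply_apply, eB.symm_apply_apply]
      map_add' := fun x y => by
        show eB (x + y) = eB (eB.symm (eB x) + eB.symm (eB y))
        rw [eB.symm_apply_apply, eB.symm_apply_apply] }
  have key : ∀ (f : ↥K) (a : A), eA.symm ((f : AddMonoid.End A) a) = f * eA.symm a := fun f a => by
    apply eA.injective
    rw [eA.apply_symm_apply]
    show _ = (f : AddMonoid.End A) (eA (eA.symm a))
    rw [eA.apply_symm_apply]
  refine ⟨Box m, fm, ft, eA.symm.trans rK.toAddEquiv, fun f hf => ⟨rK ⟨f, hf⟩, fun a => ?_⟩,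
    fun c => ⟨_, (rK.symm c).2, fun a => ?_⟩, hS'S, hSS'⟩
  · show rK (eA.symm (f a)) = rK ⟨f, hf⟩ * rK (eA.symm a)
    rw [← map_mul, ← key ⟨f, hf⟩]
  · show rK (eA.symm _) = c * rK (eA.symm a)
    rw [key, map_mul, rK.apply_symm_apply]

end

end Cfsg.Agent.H31.SL2Pair
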